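import Mathlib

/-!
Cubic forms as symmetric trilinear forms; translation from homogeneous polynomials of degree three.
-/

set_option autoImplicit false

namespace Groth.CubicGeom

open MvPolynomial Finset

section Poly
variable {σ R : Type*} [CommRing R]

theorem pderiv_comm (i j : σ) (f : MvPolynomial σ R) :
    pderiv i (pderiv j f) = pderiv j (pderiv i f) := by
  classical
  induction f using MvPolynomial.induction_on with
  | C a => simp
  | add p q hp hq => simp [hp, hq]
  | mul_X p k hp =>
    simp only [Derivation.leibniz, map_add, pderiv_X, smul_eq_mul, Pi.single_apply]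
    split_ifs <;> simp [hp] <;> ring

theorem eval_euler [Fintype σ] {n : ℕ} {f : MvPolynomial σ R} (h : f.IsHomogeneous n) (x : σ → R) :
    ∑ i, x i * eval x (pderiv i f) = n * eval x f := by
  simpa [map_sum, map_mul, nsmul_eq_mul] using congrArg (eval x) h.sum_X_mul_pderiv

end Poly

/-- A symmetric trilinear form. -/
@[ext]
structure Form (K V : Type*) [Field K] [AddCommGroup V] [Module K V] where
  tri : V →ₗ[K] V →ₗ[K] V →ₗ[K] K
  symm12 : ∀ a b c, tri a b c = tri b a c
  symm23 : ∀ a b c, tri a b c = tri a c b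

namespace Form

variable {K V : Type*} [Field K] [AddCommGroup V] [Module K V] (T : Form K V)

theorem rot (a b c : V) : T.tri a b c = T.tri b c a := by rw [T.symm12, T.symm23]

theorem symm13 (a b c : V) : T.tri a b c = T.tri c b a := by rw [T.symm12, T.symm23, T.symm12]

theorem expand₂ (a b : V) (s t : K) :
    T.tri (s • a + t • b) (s • a + t • b) (s • a + t • b) =
      s ^ 3 * T.tri a a a + 3 * s ^ 2 * t * T.tri a a b + 3 * s * t ^ 2 * T.tri a b b
        + t ^ 3 * T.tri b b b := by
  simp only [map_add, map_smul, LinearMap.add_apply, LinearMap.smul_apply, smul_eq_mul,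
    T.symm12 b a, T.symm23 a b a, T.symm23 b b a]
  ring

theorem expand (a b : V) (t : K) :
    T.tri (a + t • b) (a + t • b) (a + t • b) =
      T.tri a a a + 3 * t * T.tri a a b + 3 * t ^ 2 * T.tri a b b + t ^ 3 * T.tri b b b := by
  simpa using T.expand₂ a b 1 t

theorem polar_expand (a b c : V) (s t : K) :
    T.tri (s • a + t • b) (s • a + t • b) c =
      s ^ 2 * T.tri a a c + 2 * s * t * T.tri a b c + t ^ 2 * T.tri b b c := by
  simp only [map_add, map_smul, LinearMap.add_apply, LinearMap.smul_apply, smul_eq_mul, T.symm12 b a]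
  ring

variable {W : Type*} [AddCommGroup W] [Module K W]

/-- Pull back along a linear map. -/
def comap (L : W →ₗ[K] V) : Form K W where
  tri := LinearMap.mk₂ K (fun a b => T.tri (L a) (L b) ∘ₗ L)
    (fun a a' b => by ext; simp) (fun r a b => by ext; simp)
    (fun a b b' => by ext; simp) (fun r a b => by ext; simp)
  symm12 a b c := T.symm12 _ _ _
  symm23 a b c := T.symm23 _ _ _

@[simp] theorem comap_apply (L : W →ₗ[K] V) (a b c : W) :
    (T.comap L).tri a b c = T.tri (L a) (L b) (L c) := rfl

/-- No singular point away from the origin. -/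
def Smooth : Prop := ∀ v : V, v ≠ 0 → T.tri v v v = 0 → ∃ w, T.tri v v w ≠ 0

theorem Smooth.comap {T : Form K V} (h : T.Smooth) (L : W ≃ₗ[K] V) :
    (T.comap (L : W →ₗ[K] V)).Smooth := by
  intro v hv h0
  obtain ⟨w, hw⟩ := h (L v) (by simpa using hv) (by simpa using h0)
  exact ⟨L.symm w, by simpa using hw⟩

theorem Smooth.exists_ne {T : Form K V} (h : T.Smooth) {v : V} (hv : v ≠ 0)
    (h0 : ∀ w, T.tri v v w = 0) : False := by
  obtain ⟨w, hw⟩ := h v hv (h0 v)
  exact hw (h0 w)

end Form

section OfPoly

variable {K : Type*} [Field K] {n : ℕ}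

/-- The third derivative at the origin. -/
noncomputable def coeff3 (f : MvPolynomial (Fin n) K) (i j l : Fin n) : K :=
  eval 0 (pderiv i (pderiv j (pderiv l f)))

/-- The polarization of a cubic. -/
noncomputable def ofPoly (f : MvPolynomial (Fin n) K) : Form K (Fin n → K) where
  tri := ∑ i, ∑ j, ∑ l, coeff3 f i j l •
    (LinearMap.proj i : (Fin n → K) →ₗ[K] K).smulRight
      ((LinearMap.proj j : (Fin n → K) →ₗ[K] K).smulRight (LinearMap.proj l : (Fin n → K) →ₗ[K] K))
  symm12 a b c := by
    simp only [LinearMap.coe_sum, Finset.sum_apply, LinearMap.smul_apply, LinearMap.smulRight_apply,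
      LinearMap.coe_proj, Function.eval, smul_eq_mul]
    rw [Finset.sum_comm]
    refine sum_congr rfl fun i _ => sum_congr rfl fun j _ => sum_congr rfl fun l _ => ?_
    rw [show coeff3 f j i l = coeff3 f i j l by simp only [coeff3, pderiv_comm j i]]
    ring
  symm23 a b c := by
    simp only [LinearMap.coe_sum, Finset.sum_apply, LinearMap.smul_apply, LinearMap.smulRight_apply,
      LinearMap.coe_proj, Function.eval, smul_eq_mul]
    refine sum_congr rfl fun i _ => ?_
    rw [Finset.sum_comm]
    refine sum_congr rfl fun j _ => sum_congr rfl fun l _ => ?_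
    rw [show coeff3 f i l j = coeff3 f i j l by simp only [coeff3, pderiv_comm l j]]
    ring

theorem ofPoly_apply (f : MvPolynomial (Fin n) K) (a b c : Fin n → K) :
    (ofPoly f).tri a b c = ∑ i, ∑ j, ∑ l, coeff3 f i j l * (a i * (b j * c l)) := by
  simp [ofPoly]

variable {f : MvPolynomial (Fin n) K}

theorem sum_coeff3 (hf : f.IsHomogeneous 3) (x : Fin n → K) (j l : Fin n) :
    ∑ i, coeff3 f i j l * x i = eval x (pderiv j (pderiv l f)) := by
  have h1 : (pderiv j (pderiv l f)).IsHomogeneous 1 := hf.pderiv.pderiv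
  have h := eval_euler h1 x
  simp only [Nat.cast_one, one_mul] at h
  rw [← h]
  refine sum_congr rfl fun i _ => ?_
  have h0 : (pderiv i (pderiv j (pderiv l f))).IsHomogeneous 0 := h1.pderiv
  rw [← totalDegree_zero_iff_isHomogeneous, totalDegree_eq_zero_iff_eq_C] at h0
  rw [mul_comm, coeff3, h0]
  simp

theorem ofPoly_self_self (hf : f.IsHomogeneous 3) (v w : Fin n → K) :
    (ofPoly f).tri v v w = 2 * ∑ l, eval v (pderiv l f) * w l := by
  rw [ofPoly_apply]
  calc ∑ i, ∑ j, ∑ l, coeff3 f i j l * (v i * (v j * w l))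
      = ∑ l, ∑ j, (∑ i, coeff3 f i j l * v i) * (v j * w l) := by
        rw [Finset.sum_comm]
        refine Eq.trans (sum_congr rfl fun j _ => Finset.sum_comm) ?_
        rw [Finset.sum_comm]
        refine sum_congr rfl fun l _ => sum_congr rfl fun j _ => ?_
        rw [sum_mul]
        exact sum_congr rfl fun i _ => by ring
    _ = ∑ l, (∑ j, v j * eval v (pderiv j (pderiv l f))) * w l := by
        refine sum_congr rfl fun l _ => ?_
        rw [sum_mul]
        exact sum_congr rfl fun j _ => by rw [sum_coeff3 hf]; ring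
    _ = _ := by
        rw [mul_sum]
        refine sum_congr rfl fun l _ => ?_
        rw [eval_euler (hf.pderiv : (pderiv l f).IsHomogeneous 2)]
        push_cast; ring

theorem ofPoly_self (hf : f.IsHomogeneous 3) (v : Fin n → K) :
    (ofPoly f).tri v v v = 6 * eval v f := by
  rw [ofPoly_self_self hf]
  have := eval_euler hf v
  simp only [mul_comm (v _)] at this
  rw [this]; push_cast; ring

theorem pderiv_eq_ofPoly [CharZero K] (hf : f.IsHomogeneous 3) (v : Fin n → K) (i : Fin n) :
    eval v (pderiv i f) = (ofPoly f).tri v v (Pi.single i 1) / 2 := by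
  rw [ofPoly_self_self hf]
  simp [Pi.single_apply]

theorem ofPoly_self_eq_zero [CharZero K] (hf : f.IsHomogeneous 3) (v : Fin n → K) :
    (ofPoly f).tri v v v = 0 ↔ eval v f = 0 := by
  simp [ofPoly_self hf]

theorem smooth_ofPoly [CharZero K] (hf : f.IsHomogeneous 3)
    (hsm : ∀ v : Fin n → K, v ≠ 0 → eval v f = 0 → ∃ i, eval v (pderiv i f) ≠ 0) :
    (ofPoly f).Smooth := by
  intro v hv h
  obtain ⟨i, hi⟩ := hsm v hv ((ofPoly_self_eq_zero hf v).1 h)
  refine ⟨Pi.single i 1, fun h0 => hi ?_⟩
  rw [pderiv_eq_ofPoly hf, h0, zero_div]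

/-- The linear substitution used in the statements. -/
noncomputable def subst {m : ℕ} (A : Matrix (Fin n) (Fin m) K) :
    MvPolynomial (Fin n) K →ₐ[K] MvPolynomial (Fin m) K :=
  aeval fun i : Fin n => ∑ j : Fin m, C (A i j) * X j

theorem eval_subst {m : ℕ} (A : Matrix (Fin n) (Fin m) K) (g : MvPolynomial (Fin n) K)
    (x : Fin m → K) : eval x (subst A g) = eval (A.mulVec x) g := by
  induction g using MvPolynomial.induction_on with
  | C a => simp [subst]
  | add p q hp hq => simp [map_add, hp, hq]
  | mul_X p k hp => simp only [map_mul, hp]; simp [subst, Matrix.mulVec, dotProduct]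

theorem subst_eq_iff [Infinite K] {m : ℕ} (A : Matrix (Fin n) (Fin m) K)
    (g : MvPolynomial (Fin n) K) (g' : MvPolynomial (Fin m) K) (c : K) :
    subst A g = C c * g' ↔ ∀ x, eval (A.mulVec x) g = c * eval x g' := by
  rw [MvPolynomial.funext_iff]
  simp [eval_subst]

end OfPoly

end Groth.CubicGeom
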