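import Groth.Agent.CubicGeom.Basic

/-!
Lines, Eckardt points and their reflections on a smooth cubic surface.
-/

set_option autoImplicit false

namespace Groth.CubicGeom

namespace Form

variable {K V : Type*} [Field K] [AddCommGroup V] [Module K V] (T : Form K V)

/-- The subspace lies on the cone of the cubic. -/
def OnSurf (U : Submodule K V) : Prop := ∀ u ∈ U, T.tri u u u = 0

/-- A line of the cubic. -/
def IsLine (U : Submodule K V) : Prop := Module.finrank K ↥U = 2 ∧ T.OnSurf U

/-- A point on three lines of the cubic. -/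
def IsEckardt (e : V) : Prop :=
  ∃ U : Fin 3 → Submodule K V, Function.Injective U ∧ ∀ i, T.IsLine (U i) ∧ e ∈ U i

/-- `x ↦ x - 2 ψ(x) e`. -/
def refl (ψ : V →ₗ[K] K) (e : V) : V →ₗ[K] V := LinearMap.id - (2 : K) • ψ.smulRight e

theorem refl_apply (ψ : V →ₗ[K] K) (e x : V) : refl ψ e x = x - (2 * ψ x) • e := by
  simp [refl, smul_smul]

theorem refl_refl {ψ : V →ₗ[K] K} {e : V} (h : ψ e = 1) (x : V) : refl ψ e (refl ψ e x) = x := by
  rw [refl_apply, refl_apply, map_sub, map_smul, h, smul_eq_mul, mul_one]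
  module

theorem refl_self {ψ : V →ₗ[K] K} {e : V} (h : ψ e = 1) : refl ψ e e = -e := by
  rw [refl_apply, h]; module

theorem finrank_ker_of_ne_zero [FiniteDimensional K V] {φ : V →ₗ[K] K} (hφ : φ ≠ 0) :
    Module.finrank K ↥(LinearMap.ker φ) + 1 = Module.finrank K V := by
  have hs : Function.Surjective φ := by
    obtain ⟨z, hz⟩ : ∃ z, φ z ≠ 0 := by
      by_contra h; push Not at h; exact hφ (LinearMap.ext h)
    exact fun c => ⟨(c / φ z) • z, by simp [hz]⟩
  have := φ.finrank_range_add_finrank_ker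
  rw [LinearMap.range_eq_top.2 hs, finrank_top, Module.finrank_self] at this
  omega

variable [CharZero K]

theorem OnSurf.tri_eq_zero {T : Form K V} {U : Submodule K V} (h : T.OnSurf U) {u v w : V}
    (hu : u ∈ U) (hv : v ∈ U) (hw : w ∈ U) : T.tri u v w = 0 := by
  have key : ∀ a ∈ U, ∀ b ∈ U, T.tri a a b = 0 := fun a ha b hb => by
    have h1 := T.expand a b 1
    have h2 := T.expand a b (-1)
    rw [h _ (U.add_mem ha (U.smul_mem _ hb)), h a ha, h b hb] at h1 h2
    linear_combination (-1 / 6 : K) * (h1 - h2)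
  have := key (u + v) (U.add_mem hu hv) w hw
  simp only [map_add, LinearMap.add_apply, key u hu w hw, key v hv w hw, T.symm12 v u] at this
  linear_combination (1 / 2 : K) * this

theorem onSurf_span_pair {u v : V} (h0 : T.tri u u u = 0) (h1 : T.tri u u v = 0) (h2 : T.tri u v v = 0)
    (h3 : T.tri v v v = 0) : T.OnSurf (Submodule.span K {u, v}) := by
  intro x hx
  obtain ⟨a, b, rfl⟩ := Submodule.mem_span_pair.1 hx
  rw [T.expand₂, h0, h1, h2, h3]; ring

variable [IsAlgClosed K] [FiniteDimensional K V] {T}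

theorem Smooth.not_onSurf_hyperplane (hT : T.Smooth) {U : Submodule K V}
    (hU : 2 ≤ Module.finrank K ↥U) (hU' : Module.finrank K ↥U + 1 = Module.finrank K V) :
    ¬ T.OnSurf U := by
  intro h
  obtain ⟨z, hz⟩ := SetLike.exists_not_mem_of_ne_top U (fun e => by
    rw [e, finrank_top] at hU'; omega)
  have hsup : U ⊔ Submodule.span K {z} = ⊤ := by
    apply Submodule.eq_top_of_finrank_eq
    have hlt : U < U ⊔ Submodule.span K {z} := lt_of_le_of_ne le_sup_left fun e =>
      hz (e ▸ Submodule.mem_sup_right (Submodule.mem_span_singleton_self z))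
    have := Submodule.finrank_lt_finrank_of_lt hlt
    have := Submodule.finrank_le (U ⊔ Submodule.span K {z})
    omega
  have hcrit : ∀ v ∈ U, T.tri v v z = 0 → v = 0 := fun v hv hvz => by
    by_contra hv0
    refine hT.exists_ne hv0 fun x => ?_
    obtain ⟨a, ha, b, hb, rfl⟩ := Submodule.mem_sup.1 (hsup ▸ Submodule.mem_top : x ∈ U ⊔ Submodule.span K {z})
    obtain ⟨r, rfl⟩ := Submodule.mem_span_singleton.1 hb
    simp [map_add, h.tri_eq_zero hv hv ha, hvz]
  let b := Module.finBasis K ↥U
  let u : V := b ⟨0, by omega⟩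
  let v : V := b ⟨1, by omega⟩
  have hli : LinearIndependent K ![u, v] := by
    have := (b.linearIndependent.map' U.subtype U.ker_subtype).comp
      ![⟨0, by omega⟩, ⟨1, by omega⟩] (fun i j hij => by fin_cases i <;> fin_cases j <;> simp at hij ⊢)
    have he : ![u, v] = ((⇑U.subtype ∘ ⇑b) ∘ ![⟨0, by omega⟩, ⟨1, by omega⟩]) := by
      ext i; fin_cases i <;> rfl
    rw [he]; exact this
  rw [LinearIndependent.pair_iff] at hli
  have hu : u ∈ U := (b _).2
  have hv : v ∈ U := (b _).2
  have hu2 : T.tri u u z ≠ 0 := fun e => by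
    have := hli 1 0 (by rw [one_smul, zero_smul, add_zero, hcrit u hu e]); simp at this
  obtain ⟨t, ht⟩ := IsAlgClosed.exists_root
    (Polynomial.C (T.tri u u z) * Polynomial.X ^ 2 + Polynomial.C (2 * T.tri u v z) * Polynomial.X
      + Polynomial.C (T.tri v v z) : Polynomial K)
    (by rw [Polynomial.degree_quadratic hu2]; decide)
  simp only [Polynomial.IsRoot, Polynomial.eval_add, Polynomial.eval_mul, Polynomial.eval_pow,
    Polynomial.eval_C, Polynomial.eval_X] at ht
  have := hcrit (t • u + (1 : K) • v) (U.add_mem (U.smul_mem _ hu) (U.smul_mem _ hv))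
    (by rw [T.polar_expand]; linear_combination ht)
  simpa using hli t 1 this

section Surface

variable (hV : Module.finrank K V = 4) (hT : T.Smooth)
include hV hT

omit [CharZero K] [IsAlgClosed K] [FiniteDimensional K V] in
theorem tri_self_ne_zero {e : V} (he : e ≠ 0) (h0 : T.tri e e e = 0) : T.tri e e ≠ 0 := fun h => by
  obtain ⟨w, hw⟩ := hT e he h0
  exact hw (by rw [h]; rfl)

omit [IsAlgClosed K] [FiniteDimensional K V] in
theorem IsEckardt.self_eq_zero {e : V} (hE : T.IsEckardt e) : T.tri e e e = 0 := by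
  obtain ⟨U, -, hU⟩ := hE
  exact (hU 0).1.2.tri_eq_zero (hU 0).2 (hU 0).2 (hU 0).2

/-- At an Eckardt point the tangent plane meets the surface in the three lines and the polar
quadric vanishes on it. -/
theorem IsEckardt.tangentPlane {e : V} (he : e ≠ 0) {U : Fin 3 → Submodule K V}
    (hinj : Function.Injective U) (hU : ∀ i, T.IsLine (U i) ∧ e ∈ U i) :
    (∀ x y, T.tri e e x = 0 → T.tri e e y = 0 → T.tri e x y = 0) ∧
      ∀ x, T.tri e e x = 0 → T.tri x x x = 0 → ∃ i, x ∈ U i := by
  have hu : ∀ i, ∃ u ∈ U i, LinearIndependent K ![e, u] := fun i => by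
    by_contra hcon
    push Not at hcon
    have hle : U i ≤ Submodule.span K {e} := fun u hu => by
      by_contra hne
      exact hcon u hu ((LinearIndependent.pair_iff' he).2 fun a ha =>
        hne (ha ▸ Submodule.smul_mem _ a (Submodule.mem_span_singleton_self e)))
    have := Submodule.finrank_mono hle
    rw [(hU i).1.1, finrank_span_singleton he] at this
    omega
  choose u huU hli using hu
  have hspan : ∀ i, U i = Submodule.span K {e, u i} := fun i => by
    refine (Submodule.eq_of_le_of_finrank_le ?_ ?_).symm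
    · rw [Submodule.span_le]; rintro x (rfl | rfl); exacts [(hU i).2, huU i]
    · rw [(hU i).1.1]
      have := finrank_span_eq_card (hli i)
      rw [Fintype.card_fin, show Set.range ![e, u i] = {e, u i} by simp [Matrix.range_cons, Set.pair_comm]] at this
      omega
  have z : ∀ i, T.tri e e (u i) = 0 ∧ T.tri e (u i) (u i) = 0 ∧ T.tri (u i) (u i) (u i) = 0 := fun i =>
    ⟨(hU i).1.2.tri_eq_zero (hU i).2 (hU i).2 (huU i), (hU i).1.2.tri_eq_zero (hU i).2 (huU i) (huU i),
      (hU i).1.2.tri_eq_zero (huU i) (huU i) (huU i)⟩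
  have h3e : T.tri e e e = 0 := (hU 0).1.2.tri_eq_zero (hU 0).2 (hU 0).2 (hU 0).2
  have hφ : T.tri e e ≠ 0 := tri_self_ne_zero hV hT he h3e
  have hL := finrank_ker_of_ne_zero hφ
  -- e, u 0, u 1 span the tangent plane
  have hli3 : LinearIndependent K ![e, u 0, u 1] := by
    rw [Fintype.linearIndependent_iff]
    intro g hg
    rw [Fin.sum_univ_three] at hg
    simp only [Matrix.cons_val_zero, Matrix.cons_val_one, Matrix.cons_val] at hg
    have h2 : g 2 = 0 := by
      by_contra h
      have hmem : u 1 ∈ U 0 := by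
        have : u 1 = (g 2)⁻¹ • (-(g 0 • e + g 1 • u 0)) := by
          rw [eq_inv_smul_iff₀ h]; linear_combination (norm := module) hg
        rw [this]
        exact Submodule.smul_mem _ _ (Submodule.neg_mem _ (Submodule.add_mem _
          (Submodule.smul_mem _ _ (hU 0).2) (Submodule.smul_mem _ _ (huU 0))))
      have : U 1 ≤ U 0 := by
        rw [hspan 1, Submodule.span_le]; rintro x (rfl | rfl); exacts [(hU 0).2, hmem]
      exact absurd (hinj (Submodule.eq_of_le_of_finrank_eq this (by rw [(hU 1).1.1, (hU 0).1.1])))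
        (by decide)
    rw [h2, zero_smul, add_zero] at hg
    obtain ⟨a, b⟩ := LinearIndependent.pair_iff.1 (hli 0) _ _ hg
    intro i; fin_cases i <;> assumption
  have hker : LinearMap.ker (T.tri e e) = Submodule.span K {e, u 0, u 1} := by
    refine (Submodule.eq_of_le_of_finrank_le ?_ ?_).symm
    · rw [Submodule.span_le]
      rintro x (rfl | rfl | rfl)
      exacts [h3e, (z 0).1, (z 1).1]
    · have := finrank_span_eq_card hli3
      rw [Fintype.card_fin, show Set.range ![e, u 0, u 1] = {e, u 0, u 1} by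
        ext; simp [Fin.exists_fin_succ, eq_comm]; tauto] at this
      omega
  have hcoord : ∀ x, T.tri e e x = 0 → ∃ a b c : K, x = a • e + b • u 0 + c • u 1 := fun x hx => by
    have : x ∈ Submodule.span K {e, u 0, u 1} := hker ▸ hx
    obtain ⟨a, w, hw, rfl⟩ := Submodule.mem_span_insert.1 this
    obtain ⟨b, c, rfl⟩ := Submodule.mem_span_pair.1 hw
    exact ⟨a, b, c, by abel⟩
  obtain ⟨α, β, γ, h2⟩ := hcoord (u 2) (z 2).1
  have hβγ : β ≠ 0 ∧ γ ≠ 0 := by
    refine ⟨fun h => ?_, fun h => ?_⟩
    · have : U 2 ≤ U 1 := by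
        rw [hspan 2, Submodule.span_le]
        rintro x (rfl | rfl)
        · exact (hU 1).2
        · rw [SetLike.mem_coe, h2, h, zero_smul, add_zero]
          exact Submodule.add_mem _ (Submodule.smul_mem _ _ (hU 1).2) (Submodule.smul_mem _ _ (huU 1))
      exact absurd (hinj (Submodule.eq_of_le_of_finrank_eq this (by rw [(hU 2).1.1, (hU 1).1.1])))
        (by decide)
    · have : U 2 ≤ U 0 := by
        rw [hspan 2, Submodule.span_le]
        rintro x (rfl | rfl)
        · exact (hU 0).2
        · rw [SetLike.mem_coe, h2, h, zero_smul, add_zero]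
          exact Submodule.add_mem _ (Submodule.smul_mem _ _ (hU 0).2) (Submodule.smul_mem _ _ (huU 0))
      exact absurd (hinj (Submodule.eq_of_le_of_finrank_eq this (by rw [(hU 2).1.1, (hU 0).1.1])))
        (by decide)
  have hB : T.tri e (u 0) (u 1) = 0 := by
    have h := (z 2).2.1
    rw [h2] at h
    simp only [map_add, map_smul, LinearMap.add_apply, LinearMap.smul_apply, smul_eq_mul, h3e,
      (z 0).1, (z 0).2.1, (z 1).1, (z 1).2.1, T.symm23 e (u 0) e, T.symm23 e (u 1) e,
      T.symm23 e (u 1) (u 0)] at h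
    have : 2 * β * γ * T.tri e (u 0) (u 1) = 0 := by linear_combination h
    simpa [hβγ.1, hβγ.2] using this
  have hC : ∀ x y, T.tri e e x = 0 → T.tri e e y = 0 → T.tri e x y = 0 := fun x y hx hy => by
    obtain ⟨a, b, c, rfl⟩ := hcoord x hx
    obtain ⟨a', b', c', rfl⟩ := hcoord y hy
    simp only [map_add, map_smul, LinearMap.add_apply, LinearMap.smul_apply, smul_eq_mul, h3e,
      (z 0).1, (z 0).2.1, (z 1).1, (z 1).2.1, T.symm23 e (u 0) e, T.symm23 e (u 1) e,
      T.symm23 e (u 1) (u 0), hB]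
    ring
  refine ⟨hC, fun x hx hx0 => ?_⟩
  obtain ⟨a, b, c, rfl⟩ := hcoord x hx
  have val : ∀ a b c : K, T.tri (a • e + b • u 0 + c • u 1) (a • e + b • u 0 + c • u 1)
      (a • e + b • u 0 + c • u 1) =
      3 * b ^ 2 * c * T.tri (u 0) (u 0) (u 1) + 3 * b * c ^ 2 * T.tri (u 0) (u 1) (u 1) := fun a b c => by
    simp only [map_add, map_smul, LinearMap.add_apply, LinearMap.smul_apply, smul_eq_mul, h3e,
      (z 0).1, (z 0).2.1, (z 0).2.2, (z 1).1, (z 1).2.1, (z 1).2.2, hB,
      T.symm12 (u 0) e, T.symm12 (u 1) e, T.symm23 e (u 0) e, T.symm23 e (u 1) e,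
      T.symm23 e (u 1) (u 0), T.symm23 (u 0) (u 0) e, T.symm23 (u 1) (u 1) e, T.symm23 (u 0) (u 1) e,
      T.symm23 (u 1) (u 0) e, T.symm12 (u 1) (u 0), T.symm23 (u 0) (u 1) (u 0),
      T.symm23 (u 1) (u 1) (u 0)]
    ring
  have hrel : β * T.tri (u 0) (u 0) (u 1) + γ * T.tri (u 0) (u 1) (u 1) = 0 := by
    have h := (z 2).2.2
    rw [h2, val] at h
    have : 3 * β * γ * (β * T.tri (u 0) (u 0) (u 1) + γ * T.tri (u 0) (u 1) (u 1)) = 0 := by
      linear_combination h
    simpa [hβγ.1, hβγ.2] using this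
  rw [val] at hx0
  by_cases hb : b = 0
  · exact ⟨1, by rw [hb, zero_smul, add_zero]
                 exact Submodule.add_mem _ (Submodule.smul_mem _ _ (hU 1).2) (Submodule.smul_mem _ _ (huU 1))⟩
  by_cases hc : c = 0
  · exact ⟨0, by rw [hc, zero_smul, add_zero]
                 exact Submodule.add_mem _ (Submodule.smul_mem _ _ (hU 0).2) (Submodule.smul_mem _ _ (huU 0))⟩
  refine ⟨2, ?_⟩
  have hne : T.tri (u 0) (u 0) (u 1) ≠ 0 := fun h0 => by
    have h1 : T.tri (u 0) (u 1) (u 1) = 0 := by simpa [h0, hβγ.2] using hrel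
    refine hT.not_onSurf_hyperplane (U := LinearMap.ker (T.tri e e)) (by omega) (by omega) fun y hy => ?_
    obtain ⟨a, b, c, rfl⟩ := hcoord y hy
    rw [val, h0, h1]; ring
  have hratio : b * γ = c * β := by
    have h1 : 3 * b * c * (b * T.tri (u 0) (u 0) (u 1) + c * T.tri (u 0) (u 1) (u 1)) = 0 := by
      linear_combination hx0
    have h2 : b * T.tri (u 0) (u 0) (u 1) + c * T.tri (u 0) (u 1) (u 1) = 0 := by simpa [hb, hc] using h1
    have : (b * γ - c * β) * T.tri (u 0) (u 0) (u 1) = 0 := by linear_combination γ * h2 - c * hrel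
    simpa [hne, sub_eq_zero] using this
  have hb' : b = c / γ * β := by field_simp [hβγ.2]; linear_combination hratio
  have : a • e + b • u 0 + c • u 1 = (a - c / γ * α) • e + (c / γ) • u 2 := by
    rw [h2, hb', smul_add, smul_add, smul_smul, smul_smul, smul_smul, div_mul_cancel₀ c hβγ.2]
    module
  rw [this]
  exact Submodule.add_mem _ (Submodule.smul_mem _ _ (hU 2).2) (Submodule.smul_mem _ _ (huU 2))

/-- The functional defining the Eckardt involution. -/
theorem IsEckardt.exists_psi {e : V} (he : e ≠ 0) (hE : T.IsEckardt e) :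
    ∃ ψ : V →ₗ[K] K, ψ e = 1 ∧ ∀ x, T.tri e x x = 2 * ψ x * T.tri e e x := by
  obtain ⟨U, hinj, hU⟩ := hE
  have h3e : T.tri e e e = 0 := (hU 0).1.2.tri_eq_zero (hU 0).2 (hU 0).2 (hU 0).2
  obtain ⟨w, hw⟩ := hT e he h3e
  obtain ⟨hB, -⟩ := IsEckardt.tangentPlane hV hT he hinj hU
  obtain ⟨z, hz⟩ : ∃ z, T.tri e e z = 1 := ⟨(T.tri e e w)⁻¹ • w, by simp [hw]⟩
  refine ⟨T.tri e z - (T.tri e z z / 2) • T.tri e e, ?_, fun x => ?_⟩
  · simp [h3e, T.symm23 e z e, hz]
  · have hl : T.tri e e (x - T.tri e e x • z) = 0 := by simp [hz]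
    have h := hB _ _ hl hl
    simp only [map_sub, map_smul, LinearMap.sub_apply, LinearMap.smul_apply, smul_eq_mul,
      T.symm23 e x z] at h
    simp only [LinearMap.sub_apply, LinearMap.smul_apply, smul_eq_mul]
    linear_combination h

omit [IsAlgClosed K] [FiniteDimensional K V] hV in
theorem psi_unique {e : V} (he : e ≠ 0) (h0 : T.tri e e e = 0) {ψ ψ' : V →ₗ[K] K} (h : ψ e = 1)
    (h' : ψ' e = 1) (hq : ∀ x, T.tri e x x = 2 * ψ x * T.tri e e x)
    (hq' : ∀ x, T.tri e x x = 2 * ψ' x * T.tri e e x) : ψ = ψ' := by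
  obtain ⟨w, hw⟩ := hT e he h0
  have key : ∀ x, T.tri e e x ≠ 0 → ψ x = ψ' x := fun x hx =>
    mul_right_cancel₀ hx (mul_left_cancel₀ (two_ne_zero (α := K))
      (by linear_combination (hq x).symm.trans (hq' x)))
  ext x
  by_cases hx : T.tri e e x = 0
  · have h1 := key (x + w) (by simp [hx, hw])
    have h2 := key w hw
    simp only [map_add] at h1
    linear_combination h1 - h2
  · exact key x hx

omit [IsAlgClosed K] [FiniteDimensional K V] hV hT in
theorem tri_refl {e : V} (h0 : T.tri e e e = 0) {ψ : V →ₗ[K] K}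
    (hq : ∀ x, T.tri e x x = 2 * ψ x * T.tri e e x) (x : V) :
    T.tri (refl ψ e x) (refl ψ e x) (refl ψ e x) = T.tri x x x := by
  rw [refl_apply, sub_eq_add_neg, ← neg_smul, T.expand, T.symm13 x x e, hq, T.symm13 x e e, h0]
  ring

theorem psi_of_preserves {e : V} (he : e ≠ 0) (h0 : T.tri e e e = 0) {ψ : V →ₗ[K] K} (h : ψ e = 1)
    {c : K} (hc : ∀ x, T.tri (refl ψ e x) (refl ψ e x) (refl ψ e x) = c * T.tri x x x) :
    ∀ x, T.tri e x x = 2 * ψ x * T.tri e e x := by
  have hψ : ψ ≠ 0 := fun hh => by simp [hh] at h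
  obtain rfl : c = 1 := by
    by_contra hne
    refine hT.not_onSurf_hyperplane (U := LinearMap.ker ψ) ?_ (finrank_ker_of_ne_zero hψ) fun x hx => ?_
    · have := finrank_ker_of_ne_zero hψ; omega
    · have := hc x
      rw [refl_apply, show ψ x = 0 from hx, mul_zero, zero_smul, sub_zero] at this
      have : (1 - c) * T.tri x x x = 0 := by linear_combination this
      simpa [sub_eq_zero, Ne.symm hne] using this
  have key : ∀ x, ψ x ≠ 0 → T.tri e x x = 2 * ψ x * T.tri e e x := fun x hx => by
    have h1 := hc x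
    rw [refl_apply, sub_eq_add_neg, ← neg_smul, T.expand, T.symm13 x x e, T.symm13 x e e, h0] at h1
    have : ψ x * (T.tri e x x - 2 * ψ x * T.tri e e x) = 0 := by linear_combination (-1 / 6 : K) * h1
    simpa [hx, sub_eq_zero] using this
  intro x
  by_cases hx : ψ x = 0
  · have := key (x + e) (by simp [hx, h])
    simp only [map_add, LinearMap.add_apply, h0, hx, h, T.symm23 e x e] at this
    rw [hx]; linear_combination this
  · exact key x hx

/-- An Eckardt involution is a reflection. -/
theorem involution_eq_refl {e : V} (he : e ≠ 0) {A : V →ₗ[K] V}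
    (hk : Module.finrank K ↥(LinearMap.ker (A - LinearMap.id)) = 3) (hAe : A e = -e) :
    ∃ ψ : V →ₗ[K] K, ψ e = 1 ∧ A = refl ψ e := by
  have h1 : Module.finrank K ↥(LinearMap.range (A - LinearMap.id)) = 1 := by
    have := (A - LinearMap.id).finrank_range_add_finrank_ker; omega
  have he' : e ∈ LinearMap.range (A - LinearMap.id) :=
    ⟨(-1 / 2 : K) • e, by simp [hAe]; module⟩
  have hr : LinearMap.range (A - LinearMap.id) = Submodule.span K {e} :=
    (Submodule.eq_of_le_of_finrank_le ((Submodule.span_singleton_le_iff_mem _ _).2 he')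
      (by rw [h1, finrank_span_singleton he])).symm
  obtain ⟨χ, hχ⟩ : ∃ χ : V →ₗ[K] K, ∀ x, A x - x = χ x • e := by
    let g := (LinearEquiv.toSpanNonzeroSingleton K V e he).symm.toLinearMap ∘ₗ
      ((A - LinearMap.id).codRestrict (Submodule.span K {e}) fun x => hr ▸ LinearMap.mem_range_self _ x)
    refine ⟨g, fun x => ?_⟩
    have := LinearEquiv.apply_symm_apply (LinearEquiv.toSpanNonzeroSingleton K V e he)
      ((A - LinearMap.id).codRestrict (Submodule.span K {e}) (fun x => hr ▸ LinearMap.mem_range_self _ x) x)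
    exact (congrArg Subtype.val this).symm
  refine ⟨(-1 / 2 : K) • χ, ?_, LinearMap.ext fun x => ?_⟩
  · have := hχ e
    rw [hAe] at this
    have h' : (χ e + 2) • e = 0 := by rw [add_smul, ← this]; module
    have : χ e + 2 = 0 := (smul_eq_zero.1 h').resolve_right he
    simp only [LinearMap.smul_apply, smul_eq_mul]
    linear_combination (-1 / 2 : K) * this
  · rw [refl_apply]
    have := hχ x
    linear_combination (norm := (simp only [LinearMap.smul_apply, smul_eq_mul]; module)) this

theorem IsEckardt.of_reflection {p : V} (hp : p ≠ 0) (h0 : T.tri p p p = 0) {ψ : V →ₗ[K] K}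
    (h : ψ p = 1) (hq : ∀ x, T.tri p x x = 2 * ψ x * T.tri p p x) : T.IsEckardt p := by
  have hB : ∀ x y, T.tri p x y = ψ x * T.tri p p y + ψ y * T.tri p p x := fun x y => by
    have := hq (x + y)
    simp only [map_add, LinearMap.add_apply, T.symm23 p y x, hq x, hq y] at this
    linear_combination (1 / 2 : K) * this
  have hφ := tri_self_ne_zero hV hT hp h0
  set W := LinearMap.ker (T.tri p p) ⊓ LinearMap.ker ψ with hW
  have hsup : LinearMap.ker (T.tri p p) ⊔ LinearMap.ker ψ = ⊤ := by
    apply Submodule.eq_top_of_finrank_eq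
    have hlt : LinearMap.ker ψ < LinearMap.ker (T.tri p p) ⊔ LinearMap.ker ψ :=
      lt_of_le_of_ne le_sup_right fun e => by
        have : p ∈ LinearMap.ker ψ := e ▸ Submodule.mem_sup_left h0
        simp [h] at this
    have := Submodule.finrank_lt_finrank_of_lt hlt
    have := Submodule.finrank_le (LinearMap.ker (T.tri p p) ⊔ LinearMap.ker ψ)
    have := finrank_ker_of_ne_zero (φ := ψ) (fun hh => by simp [hh] at h)
    omega
  have hW2 : Module.finrank K ↥W = 2 := by
    have := Submodule.finrank_sup_add_finrank_inf_eq (LinearMap.ker (T.tri p p)) (LinearMap.ker ψ)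
    have := finrank_ker_of_ne_zero (φ := ψ) (fun hh => by simp [hh] at h)
    have := finrank_ker_of_ne_zero hφ
    rw [hsup, finrank_top, ← hW] at *
    omega
  have hnd : ∀ x ∈ W, x ≠ 0 → T.tri x x x = 0 → ∃ y ∈ W, T.tri x x y ≠ 0 := by
    intro x hx hx0 hxz
    by_contra hcon
    push Not at hcon
    have hxp : T.tri x x p = 0 := by
      rw [T.symm13, hq, show ψ x = 0 from hx.2]; ring
    obtain ⟨z, hz⟩ : ∃ z, T.tri p p z = 1 := by
      obtain ⟨w, hw⟩ := hT p hp h0
      exact ⟨(T.tri p p w)⁻¹ • w, by simp [hw]⟩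
    have hprop : ∀ v, T.tri x x v = T.tri x x z * T.tri p p v := fun v => by
      set l := v - T.tri p p v • z with hl
      have hlw : l - ψ l • p ∈ W := ⟨by simp [hl, hz, h0], by simp [h]⟩
      have := hcon _ hlw
      simp only [hl, map_sub, map_smul, smul_eq_mul, hxp] at this
      linear_combination this
    obtain ⟨s, hs⟩ := IsAlgClosed.exists_pow_nat_eq (-T.tri x x z) two_pos
    have hne : x + s • p ≠ 0 := fun e => by
      have := congrArg ψ e
      simp only [map_add, map_smul, show ψ x = 0 from hx.2, h, map_zero, smul_eq_mul, zero_add, mul_one] at this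
      rw [this, zero_smul, add_zero] at e
      exact hx0 e
    refine hT.exists_ne hne fun v => ?_
    rw [show x + s • p = (1 : K) • x + s • p by rw [one_smul], T.polar_expand, T.symm12 x p, hB,
      show ψ x = 0 from hx.2, show T.tri p p x = 0 from hx.1, hprop]
    linear_combination T.tri p p v * hs
  let b := Module.finBasisOfFinrankEq K ↥W hW2
  have hbli : LinearIndependent K ![(b 0 : V), (b 1 : V)] := by
    have he : ![(b 0 : V), (b 1 : V)] = ⇑W.subtype ∘ ⇑b := by ext i; fin_cases i <;> rfl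
    rw [he]; exact b.linearIndependent.map' W.subtype W.ker_subtype
  have hbspan : ∀ x ∈ W, ∃ s t : K, x = s • (b 0 : V) + t • (b 1 : V) := fun x hx => by
    refine ⟨b.repr ⟨x, hx⟩ 0, b.repr ⟨x, hx⟩ 1, ?_⟩
    have := congrArg Subtype.val (b.sum_repr ⟨x, hx⟩)
    rw [Fin.sum_univ_two] at this
    simpa using this.symm
  obtain ⟨u, hu, hu0, huz⟩ : ∃ u ∈ W, u ≠ 0 ∧ T.tri u u u = 0 := by
    by_cases hz : T.tri (b 0 : V) (b 0) (b 0) = 0
    · exact ⟨_, (b 0).2, by simpa using b.ne_zero 0, hz⟩
    obtain ⟨t, ht⟩ := IsAlgClosed.exists_root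
      (Polynomial.C (T.tri (b 0 : V) (b 0) (b 0)) * Polynomial.X ^ 3
        + Polynomial.C (3 * T.tri (b 0 : V) (b 0) (b 1)) * Polynomial.X ^ 2
        + Polynomial.C (3 * T.tri (b 0 : V) (b 1) (b 1)) * Polynomial.X
        + Polynomial.C (T.tri (b 1 : V) (b 1) (b 1)) : Polynomial K)
      (by rw [Polynomial.degree_cubic hz]; decide)
    simp only [Polynomial.IsRoot, Polynomial.eval_add, Polynomial.eval_mul, Polynomial.eval_pow,
      Polynomial.eval_C, Polynomial.eval_X] at ht
    refine ⟨t • (b 0 : V) + (1 : K) • (b 1 : V),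
      W.add_mem (W.smul_mem _ (b 0).2) (W.smul_mem _ (b 1).2), fun e => ?_, ?_⟩
    · have := (LinearIndependent.pair_iff.1 hbli _ _ e).2; simp at this
    · rw [T.expand₂]; linear_combination ht
  obtain ⟨v, hv, huv⟩ := hnd u hu hu0 huz
  have hli2 : LinearIndependent K ![u, v] := (LinearIndependent.pair_iff' hu0).2 fun a ha => by
    rw [← ha, map_smul, huz, smul_zero] at huv; exact huv rfl
  have hWspan : W = Submodule.span K {u, v} := by
    refine (Submodule.eq_of_le_of_finrank_le ?_ ?_).symm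
    · rw [Submodule.span_le]; rintro x (rfl | rfl) <;> assumption
    · have := finrank_span_eq_card hli2
      rw [Fintype.card_fin, show Set.range ![u, v] = {u, v} by simp [Matrix.range_cons, Set.pair_comm]] at this
      omega
  obtain ⟨d, hd⟩ := IsAlgClosed.exists_pow_nat_eq
    ((3 * T.tri u v v) ^ 2 - 4 * (3 * T.tri u u v) * T.tri v v v) two_pos
  let t₁ := (-(3 * T.tri u v v) + d) / (2 * (3 * T.tri u u v))
  let t₂ := (-(3 * T.tri u v v) - d) / (2 * (3 * T.tri u u v))
  have hroot : ∀ t, t = t₁ ∨ t = t₂ → T.tri (t • u + (1 : K) • v) (t • u + (1 : K) • v) (t • u + (1 : K) • v) = 0 := by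
    intro t ht
    have e : (6 * T.tri u u v * t + 3 * T.tri u v v) ^ 2 = d ^ 2 := by
      rcases ht with rfl | rfl <;> simp only [t₁, t₂] <;> field_simp <;> ring
    rw [T.expand₂, huz]
    have : (12 * T.tri u u v) * (3 * T.tri u u v * t ^ 2 + 3 * T.tri u v v * t + T.tri v v v) = 0 := by
      linear_combination e + hd
    have e2 := (mul_eq_zero.1 this).resolve_left (mul_ne_zero (by norm_num) huv)
    linear_combination e2
  have ht12 : t₁ ≠ t₂ := fun e => by
    have hd0 : d = 0 := by
      simp only [t₁, t₂, div_left_inj' (mul_ne_zero two_ne_zero (mul_ne_zero three_ne_zero huv))] at e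
      linear_combination (1 / 2 : K) * e
    set w := t₁ • u + (1 : K) • v with hw
    have hwW : w ∈ W := W.add_mem (W.smul_mem _ hu) (W.smul_mem _ hv)
    have hw0 : w ≠ 0 := fun e => by have := (LinearIndependent.pair_iff.1 hli2 _ _ e).2; simp at this
    have hwu : T.tri w w u = 0 := by
      rw [hw, T.polar_expand, huz, T.symm23 u v u, T.symm13 v v u]
      simp only [t₁, hd0]; field_simp; ring
    obtain ⟨y, hy, hyne⟩ := hnd w hwW hw0 (hroot _ (Or.inl rfl))
    refine hyne ?_
    rw [hWspan] at hy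
    obtain ⟨a, c, rfl⟩ := Submodule.mem_span_pair.1 hy
    have hwv : T.tri w w v = 0 := by
      have := hroot t₁ (Or.inl rfl)
      rw [← hw] at this
      nth_rewrite 3 [hw] at this
      simp only [map_add, map_smul, smul_eq_mul, hwu, mul_zero, zero_add, one_mul] at this
      exact this
    simp [map_add, hwu, hwv]
  have h_psi : ψ p = 1 := h
  let h : Fin 3 → V := ![u, t₁ • u + (1 : K) • v, t₂ • u + (1 : K) • v]
  have hh : ∀ i, h i ∈ W ∧ h i ≠ 0 ∧ T.tri (h i) (h i) (h i) = 0 := by
    intro i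
    fin_cases i
    · exact ⟨hu, hu0, huz⟩
    · exact ⟨W.add_mem (W.smul_mem _ hu) (W.smul_mem _ hv),
        fun e => by have := (LinearIndependent.pair_iff.1 hli2 _ _ e).2; simp at this, hroot _ (Or.inl rfl)⟩
    · exact ⟨W.add_mem (W.smul_mem _ hu) (W.smul_mem _ hv),
        fun e => by have := (LinearIndependent.pair_iff.1 hli2 _ _ e).2; simp at this, hroot _ (Or.inr rfl)⟩
  refine ⟨fun i => Submodule.span K {p, h i}, fun i j hij => ?_, fun i => ⟨⟨?_, ?_⟩, ?_⟩⟩
  · have hmem : h i ∈ Submodule.span K {p, h j} := by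
      simp only at hij
      rw [← hij]; exact Submodule.subset_span (Or.inr rfl)
    obtain ⟨a, c, hac⟩ := Submodule.mem_span_pair.1 hmem
    have ha : a = 0 := by
      have := congrArg ψ hac
      rw [map_add, map_smul, map_smul, h_psi, show ψ (h i) = 0 from (hh i).1.2,
        show ψ (h j) = 0 from (hh j).1.2] at this
      simpa using this
    rw [ha, zero_smul, zero_add] at hac
    let X : Fin 3 → K := ![1, t₁, t₂]
    let Y : Fin 3 → K := ![0, 1, 1]
    have hxy : ∀ i, h i = X i • u + Y i • v := fun i => by fin_cases i <;> simp [h, X, Y]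
    obtain ⟨e1, e2⟩ := LinearIndependent.pair_iff.1 hli2 (c * X j - X i) (c * Y j - Y i) (by
      rw [hxy, hxy] at hac; linear_combination (norm := module) hac)
    fin_cases i <;> fin_cases j <;> simp [X, Y] at e1 e2 ⊢
    all_goals first
      | exact ht12 (by linear_combination t₂ * e2 - e1)
      | exact ht12 (by linear_combination e1 - t₁ * e2)
      | simp [e2] at e1
      | (rw [sub_eq_zero] at e1 e2; simp [e2] at e1)
  · have hli' : LinearIndependent K ![p, h i] := (LinearIndependent.pair_iff' hp).2 fun a ha => by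
      have := congrArg ψ ha
      simp only [map_smul, h_psi, smul_eq_mul, mul_one, show ψ (h i) = 0 from (hh i).1.2] at this
      exact (hh i).2.1 (by rw [← ha, this, zero_smul])
    have := finrank_span_eq_card hli'
    rwa [Fintype.card_fin, show Set.range ![p, h i] = {p, h i} by simp [Matrix.range_cons, Set.pair_comm]] at this
  · refine T.onSurf_span_pair h0 (hh i).1.1 ?_ (hh i).2.2
    rw [hq, show ψ (h i) = 0 from (hh i).1.2]; ring
  · exact Submodule.subset_span (Or.inl rfl)

omit [IsAlgClosed K] [CharZero K] [FiniteDimensional K V] hV hT in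
theorem IsEckardt.map {e : V} (hE : T.IsEckardt e) (R : V ≃ₗ[K] V)
    (hR : ∀ x, T.tri (R x) (R x) (R x) = T.tri x x x) : T.IsEckardt (R e) := by
  obtain ⟨U, hinj, hU⟩ := hE
  refine ⟨fun i => (U i).map (R : V →ₗ[K] V), fun i j h => hinj ?_, fun i => ⟨⟨?_, ?_⟩, ?_⟩⟩
  · exact Submodule.map_injective_of_injective R.injective h
  · rw [R.finrank_map_eq, (hU i).1.1]
  · rintro x ⟨y, hy, rfl⟩; exact (hR y).trans ((hU i).1.2 y hy)
  · exact Submodule.mem_map_of_mem (hU i).2

theorem IsEckardt.third {e e' : V} (he : e ≠ 0) (hE : T.IsEckardt e) (hE' : T.IsEckardt e')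
    (he' : e' ∉ Submodule.span K {e}) (hns : ¬ T.OnSurf (Submodule.span K {e, e'}))
    {ψ : V →ₗ[K] K} (h : ψ e = 1) (hq : ∀ x, T.tri e x x = 2 * ψ x * T.tri e e x) :
    T.tri e e e' ≠ 0 ∧ ψ e' ≠ 0 ∧ T.IsEckardt (refl ψ e e') ∧
      ∀ x ∈ Submodule.span K {e, e'}, T.tri x x x = 0 →
        x ∈ Submodule.span K {e} ∨ x ∈ Submodule.span K {e'} ∨ x ∈ Submodule.span K {refl ψ e e'} := by
  have h0 := IsEckardt.self_eq_zero hV hT hE
  have h0' := IsEckardt.self_eq_zero hV hT hE'
  have he'0 : e' ≠ 0 := fun hh => he' (hh ▸ Submodule.zero_mem _)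
  have hφ : T.tri e e e' ≠ 0 := fun hh => hns (T.onSurf_span_pair h0 hh (by rw [hq, hh]; ring) h0')
  have hψ : ψ e' ≠ 0 := fun hh => by
    have hee : T.tri e e' e' = 0 := by rw [hq, hh]; ring
    obtain ⟨U', hinj', hU'⟩ := hE'
    obtain ⟨hB', -⟩ := IsEckardt.tangentPlane hV hT he'0 hinj' hU'
    have e1 : T.tri e' e' e = 0 := by rw [T.symm13]; exact hee
    exact hns (T.onSurf_span_pair h0 (by rw [T.symm13]; exact hB' e e e1 e1) hee h0')
  refine ⟨hφ, hψ, hE'.map (LinearEquiv.ofLinearMap (refl ψ e) (refl ψ e)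
    (LinearMap.ext (refl_refl h)) (LinearMap.ext (refl_refl h))) (tri_refl h0 hq), fun x hx hx0 => ?_⟩
  obtain ⟨a, b, rfl⟩ := Submodule.mem_span_pair.1 hx
  rw [T.expand₂, h0, h0', hq] at hx0
  have : a * b * T.tri e e e' * (a + 2 * ψ e' * b) = 0 := by linear_combination (1 / 3 : K) * hx0
  simp [hφ] at this
  rcases this with (rfl | rfl) | hab
  · exact Or.inr (Or.inl (by simpa using Submodule.smul_mem _ b (Submodule.mem_span_singleton_self e')))
  · exact Or.inl (by simpa using Submodule.smul_mem _ a (Submodule.mem_span_singleton_self e))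
  · refine Or.inr (Or.inr ?_)
    rw [show a • e + b • e' = b • refl ψ e e' by
      rw [refl_apply, show a = -(2 * ψ e' * b) by linear_combination hab]; module]
    exact Submodule.smul_mem _ b (Submodule.mem_span_singleton_self _)

theorem IsEckardt.psi_eq_zero_of_onSurf {e e' : V} (he : e ≠ 0) (hE : T.IsEckardt e)
    (hE' : T.IsEckardt e') (he' : e' ∉ Submodule.span K {e}) (hs : T.OnSurf (Submodule.span K {e, e'}))
    {ψ : V →ₗ[K] K} (h : ψ e = 1) (hq : ∀ x, T.tri e x x = 2 * ψ x * T.tri e e x) : ψ e' = 0 := by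
  by_contra hne
  have h0 := IsEckardt.self_eq_zero hV hT hE
  have hee : T.tri e' e' e = 0 :=
    hs.tri_eq_zero (Submodule.subset_span (Or.inr rfl)) (Submodule.subset_span (Or.inr rfl))
      (Submodule.subset_span (Or.inl rfl))
  set R := LinearEquiv.ofLinearMap (refl ψ e) (refl ψ e)
    (LinearMap.ext (refl_refl h)) (LinearMap.ext (refl_refl h)) with hR
  have hRinv : ∀ x, T.tri (refl ψ e x) (refl ψ e x) (refl ψ e x) = T.tri x x x := tri_refl h0 hq
  set e'' := refl ψ e e' with he''
  have hE'' : T.IsEckardt e'' := hE'.map R hRinv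
  have he''0 : e'' ≠ 0 := by
    intro hh
    have := congrArg (refl ψ e) hh
    rw [he'', refl_refl h, map_zero] at this
    exact he' (this ▸ Submodule.zero_mem _)
  have h0' := IsEckardt.self_eq_zero hV hT hE'
  have he'0 : e' ≠ 0 := fun hh => he' (hh ▸ Submodule.zero_mem _)
  -- the tangent planes agree
  have hφ : ∀ x, T.tri e'' e'' x = T.tri e' e' x := fun x => by
    have hbil : ∀ a v, T.tri (refl ψ e a) (refl ψ e a) (refl ψ e v) = T.tri a a v := fun a v => by
      have e1 := hRinv (a + (1 : K) • v)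
      have e2 := hRinv (a + (-1 : K) • v)
      rw [map_add, map_smul, T.expand, T.expand, hRinv a, hRinv v] at e1 e2
      linear_combination (1 / 6 : K) * (e1 - e2)
    have := hbil e' (refl ψ e x)
    rw [refl_refl h, ← he''] at this
    rw [this, refl_apply, map_sub, map_smul, hee, smul_zero, sub_zero]
  obtain ⟨U', hinj', hU'⟩ := hE'
  obtain ⟨U'', hinj'', hU''⟩ := hE''
  obtain ⟨-, hcov⟩ := IsEckardt.tangentPlane hV hT he''0 hinj'' hU''
  set M := Submodule.span K {e, e'}
  obtain ⟨i, hi⟩ : ∃ i, U' i ≠ M := by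
    by_contra hh
    push Not at hh
    exact absurd (hinj' ((hh 0).trans (hh 1).symm)) (by decide)
  obtain ⟨u, hu, hli⟩ : ∃ u ∈ U' i, LinearIndependent K ![e', u] := by
    by_contra hcon
    push Not at hcon
    have hle : U' i ≤ Submodule.span K {e'} := fun u hu => by
      by_contra hne
      exact hcon u hu ((LinearIndependent.pair_iff' he'0).2 fun a ha =>
        hne (ha ▸ Submodule.smul_mem _ a (Submodule.mem_span_singleton_self e')))
    have := Submodule.finrank_mono hle
    rw [(hU' i).1.1, finrank_span_singleton he'0] at this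
    omega
  have hcov' : ∀ x ∈ U' i, ∃ j, x ∈ U'' j := fun x hx =>
    hcov x (by rw [hφ]; exact (hU' i).1.2.tri_eq_zero (hU' i).2 (hU' i).2 hx) ((hU' i).1.2 x hx)
  choose j hj using fun n : Fin 4 => hcov' (u + ((n : ℕ) : K) • e')
    (Submodule.add_mem _ hu (Submodule.smul_mem _ _ (hU' i).2))
  obtain ⟨n, m, hnm, hjnm⟩ : ∃ n m, n ≠ m ∧ j n = j m := by
    by_contra hcon
    push Not at hcon
    have := Fintype.card_le_of_injective j (fun a b hab => by
      by_contra hne; exact hcon a b hne hab)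
    simp at this
  have he'U : e' ∈ U'' (j n) := by
    have h1 := Submodule.sub_mem _ (hj n) (hjnm ▸ hj m : u + ((m : ℕ) : K) • e' ∈ U'' (j n))
    rw [add_sub_add_left_eq_sub, ← sub_smul] at h1
    exact (Submodule.smul_mem_iff _ (sub_ne_zero.2 (by simpa [Fin.val_inj] using hnm))).1 h1
  have huU : u ∈ U'' (j n) := by
    have h1 := Submodule.sub_mem _ (hj n) (Submodule.smul_mem _ ((n : ℕ) : K) he'U)
    rwa [add_sub_cancel_right] at h1
  have hUU : U' i = U'' (j n) := by
    have hs' : Submodule.span K {e', u} = U' i := by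
      refine Submodule.eq_of_le_of_finrank_le ?_ ?_
      · rw [Submodule.span_le]; rintro x (rfl | rfl); exacts [(hU' i).2, hu]
      · have := finrank_span_eq_card hli
        rw [Fintype.card_fin, show Set.range ![e', u] = {e', u} by simp [Matrix.range_cons, Set.pair_comm]] at this
        rw [(hU' i).1.1]; omega
    refine Submodule.eq_of_le_of_finrank_eq ?_ (by rw [(hU' i).1.1, (hU'' (j n)).1.1])
    rw [← hs', Submodule.span_le]; rintro x (rfl | rfl) <;> assumption
  refine hi (Submodule.eq_of_le_of_finrank_le ?_ ?_).symm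
  · have he''mem : e'' ∈ U' i := hUU ▸ (hU'' (j n)).2
    rw [Submodule.span_le]
    rintro x (rfl | rfl)
    · have h1 := Submodule.sub_mem _ (hU' i).2 he''mem
      rw [he'', refl_apply, sub_sub_cancel] at h1
      exact (Submodule.smul_mem_iff _ (mul_ne_zero two_ne_zero hne)).1 h1
    · exact (hU' i).2
  · have hli' : LinearIndependent K ![e, e'] := (LinearIndependent.pair_iff' he).2 fun a ha =>
      he' (ha ▸ Submodule.smul_mem _ a (Submodule.mem_span_singleton_self e))
    have := finrank_span_eq_card hli'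
    rw [Fintype.card_fin, show Set.range ![e, e'] = {e, e'} by simp [Matrix.range_cons, Set.pair_comm]] at this
    rw [(hU' i).1.1, show M = Submodule.span K {e, e'} from rfl]; omega

end Surface

end Form

end Groth.CubicGeom
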