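import Groth.Agent.CubicGeom.Eckardt

/-!
Binary forms, linear forms as polynomials, and covering lemmas for cubic surfaces.
-/

set_option autoImplicit false

namespace Groth.CubicGeom

open MvPolynomial

section Expand

theorem Form.combine3' {K V : Type*} [Field K] [AddCommGroup V] [Module K V] (T : Form K V) (a b c : V) (x y z : K) :
    T.tri (x • a + y • b + z • c) (x • a + y • b + z • c) (x • a + y • b + z • c) =
      x ^ 3 * T.tri a a a + y ^ 3 * T.tri b b b + z ^ 3 * T.tri c c c
      + 3 * x ^ 2 * y * T.tri a a b + 3 * x ^ 2 * z * T.tri a a c + 3 * x * y ^ 2 * T.tri a b b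
      + 3 * y ^ 2 * z * T.tri b b c + 3 * x * z ^ 2 * T.tri a c c + 3 * y * z ^ 2 * T.tri b c c
      + 6 * x * y * z * T.tri a b c := by
  simp only [map_add, map_smul, LinearMap.add_apply, LinearMap.smul_apply, smul_eq_mul,
    T.symm12 b a, T.symm12 c a, T.symm12 c b, T.symm23 a b a, T.symm23 b b a, T.symm23 a c a,
    T.symm23 c c a, T.symm23 b c b, T.symm23 c c b, T.symm23 a c b, T.symm23 b c a]
  ring

end Expand

section Field
variable {K : Type*} [Field K]

theorem binary_quadratic_factor [IsAlgClosed K] (a b c : K) :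
    ∃ p q p' q' : K, ∀ s t : K, a * s ^ 2 + b * (s * t) + c * t ^ 2 = (p * s + q * t) * (p' * s + q' * t) := by
  by_cases ha : a = 0
  · exact ⟨0, 1, b, c, fun s t => by rw [ha]; ring⟩
  obtain ⟨r, hr⟩ := IsAlgClosed.exists_root
    (Polynomial.C a * Polynomial.X ^ 2 + Polynomial.C b * Polynomial.X + Polynomial.C c : Polynomial K)
    (by rw [Polynomial.degree_quadratic ha]; decide)
  simp only [Polynomial.IsRoot, Polynomial.eval_add, Polynomial.eval_mul, Polynomial.eval_pow,
    Polynomial.eval_C, Polynomial.eval_X] at hr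
  exact ⟨1, -r, a, b + a * r, fun s t => by linear_combination t ^ 2 * hr⟩

theorem binary_cubic_factor [IsAlgClosed K] (a b c d : K) :
    ∃ p q p' q' p'' q'' : K, ∀ s t : K, a * s ^ 3 + b * (s ^ 2 * t) + c * (s * t ^ 2) + d * t ^ 3 =
      (p * s + q * t) * (p' * s + q' * t) * (p'' * s + q'' * t) := by
  by_cases ha : a = 0
  · obtain ⟨p, q, p', q', h⟩ := binary_quadratic_factor b c d
    exact ⟨0, 1, p, q, p', q', fun s t => by rw [ha]; linear_combination t * h s t⟩
  obtain ⟨r, hr⟩ := IsAlgClosed.exists_root
    (Polynomial.C a * Polynomial.X ^ 3 + Polynomial.C b * Polynomial.X ^ 2 + Polynomial.C c * Polynomial.X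
      + Polynomial.C d : Polynomial K)
    (by rw [Polynomial.degree_cubic ha]; decide)
  simp only [Polynomial.IsRoot, Polynomial.eval_add, Polynomial.eval_mul, Polynomial.eval_pow,
    Polynomial.eval_C, Polynomial.eval_X] at hr
  obtain ⟨p, q, p', q', h⟩ := binary_quadratic_factor a (b + a * r) (c + (b + a * r) * r)
  exact ⟨1, -r, p, q, p', q', fun s t => by linear_combination (s - r * t) * h s t + t ^ 3 * hr⟩

/-- A linear functional as a polynomial. -/
noncomputable def linPoly {n : ℕ} (φ : (Fin n → K) →ₗ[K] K) : MvPolynomial (Fin n) K :=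
  ∑ i, C (φ (Pi.single i 1)) * X i

theorem eval_linPoly {n : ℕ} (φ : (Fin n → K) →ₗ[K] K) (x : Fin n → K) : eval x (linPoly φ) = φ x := by
  have h : φ x = ∑ i, x i * φ (Pi.single i 1) := by
    conv_lhs => rw [pi_eq_sum_univ' x, map_sum]
    simp
  simp [linPoly, h, mul_comm]

theorem isHomogeneous_linPoly {n : ℕ} (φ : (Fin n → K) →ₗ[K] K) : (linPoly φ).IsHomogeneous 1 :=
  IsHomogeneous.sum _ _ _ fun i _ => by simpa using (isHomogeneous_C _ _).mul (isHomogeneous_X K i)

/-- A polynomial vanishing on a hyperplane is divisible by its linear form. -/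
theorem linPoly_dvd_of_forall {n : ℕ} [Infinite K] (φ : (Fin n → K) →ₗ[K] K) (z : Fin n → K) (hz : φ z = 1)
    (p : MvPolynomial (Fin n) K) (h : ∀ x, φ x = 0 → eval x p = 0) : linPoly φ ∣ p := by
  let π : MvPolynomial (Fin n) K →ₐ[K] MvPolynomial (Fin n) K := aeval fun i => X i - C (z i) * linPoly φ
  have hsub : ∀ p, linPoly φ ∣ p - π p := by
    intro p
    induction p using MvPolynomial.induction_on with
    | C a => simp [π]
    | add p q hp hq => rw [map_add, add_sub_add_comm]; exact dvd_add hp hq
    | mul_X p i hp =>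
      rw [map_mul, show π (X i) = X i - C (z i) * linPoly φ by simp [π],
        show p * X i - π p * (X i - C (z i) * linPoly φ) = (p - π p) * X i + π p * C (z i) * linPoly φ by ring]
      exact dvd_add (hp.mul_right _) (dvd_mul_left _ _)
  have h0 : π p = 0 := by
    refine MvPolynomial.funext fun x => ?_
    have : ∀ p, eval x (π p) = eval (fun i => x i - z i * φ x) p := fun p => by
      induction p using MvPolynomial.induction_on with
      | C a => simp [π]
      | add a b ha hb => rw [map_add, map_add, map_add, ha, hb]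
      | mul_X a i ha =>
        rw [map_mul, map_mul, map_mul, ha, show π (X i) = X i - C (z i) * linPoly φ by simp [π]]
        simp [eval_linPoly]
    rw [this, map_zero]
    refine h _ ?_
    rw [show (fun i => x i - z i * φ x) = x - φ x • z from funext fun i => by simp [mul_comm]]
    simp [hz]
  simpa [h0] using hsub p

theorem linPoly_dvd_of_forall' {n : ℕ} [Infinite K] (φ : (Fin n → K) →ₗ[K] K) (hφ : φ ≠ 0)
    (p : MvPolynomial (Fin n) K) (h : ∀ x, φ x = 0 → eval x p = 0) : linPoly φ ∣ p := by
  obtain ⟨w, hw⟩ : ∃ w, φ w ≠ 0 := by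
    by_contra hc; push Not at hc; exact hφ (LinearMap.ext hc)
  exact linPoly_dvd_of_forall φ ((φ w)⁻¹ • w) (by simp [hw]) p h

/-- A subspace contained in a union of three subspaces lies in one of them. -/
theorem le_one_of_subset_union [Infinite K] {V : Type*} [AddCommGroup V] [Module K V]
    {ι : Type*} [Fintype ι] (U : ι → Submodule K V) {L : Submodule K V}
    (h : ∀ x ∈ L, ∃ i, x ∈ U i) : ∃ i, L ≤ U i := by
  classical
  by_contra hc
  push Not at hc
  suffices ∀ s : Finset ι, ∃ x ∈ L, ∀ i ∈ s, x ∉ U i by
    obtain ⟨x, hx, hx'⟩ := this Finset.univ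
    obtain ⟨i, hi⟩ := h x hx
    exact hx' i (Finset.mem_univ i) hi
  intro s
  induction s using Finset.induction with
  | empty => exact ⟨0, L.zero_mem, fun i hi => by simp at hi⟩
  | insert a s _ ih =>
    obtain ⟨x, hx, hxs⟩ := ih
    obtain ⟨y, hy, hya⟩ := SetLike.not_le_iff_exists.1 (hc a)
    by_cases hxa : x ∈ U a
    · have hfin : ∀ i ∈ s, {c : K | y + c • x ∈ U i}.Subsingleton := fun i hi c hc c' hc' => by
        by_contra hne
        have := (U i).sub_mem hc hc'
        rw [add_sub_add_left_eq_sub, ← sub_smul] at this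
        exact hxs i hi (((U i).smul_mem_iff (sub_ne_zero.2 hne)).1 this)
      have : (⋃ i ∈ (s : Set ι), {c : K | y + c • x ∈ U i}).Finite :=
        s.finite_toSet.biUnion fun i hi => (hfin i hi).finite
      obtain ⟨c, hc'⟩ := this.infinite_compl.nonempty
      simp only [Set.mem_compl_iff, Set.mem_iUnion, Set.mem_setOf_eq, not_exists] at hc'
      refine ⟨y + c • x, L.add_mem hy (L.smul_mem _ hx), fun i hi => ?_⟩
      rcases Finset.mem_insert.1 hi with rfl | hi
      · exact fun hh => hya (by simpa using (U i).sub_mem hh ((U i).smul_mem c hxa))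
      · exact hc' i hi
    · exact ⟨x, hx, fun i hi => by
        rcases Finset.mem_insert.1 hi with rfl | hi
        exacts [hxa, hxs i hi]⟩

theorem finrank_span_pair {V : Type*} [AddCommGroup V] [Module K V] {a b : V}
    (h : LinearIndependent K ![a, b]) : Module.finrank K ↥(Submodule.span K {a, b}) = 2 := by
  have := finrank_span_eq_card h
  rwa [Fintype.card_fin, show Set.range ![a, b] = {a, b} by simp [Matrix.range_cons, Set.pair_comm]] at this

theorem span_pair_eq {V : Type*} [AddCommGroup V] [Module K V] [FiniteDimensional K V] {U : Submodule K V}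
    (hU : Module.finrank K ↥U = 2) {a b : V} (ha : a ∈ U) (hb : b ∈ U)
    (h : LinearIndependent K ![a, b]) : U = Submodule.span K {a, b} := by
  refine (Submodule.eq_of_le_of_finrank_le ?_ ?_).symm
  · rw [Submodule.span_le]; rintro x (rfl | rfl) <;> assumption
  · rw [finrank_span_pair h, hU]

/-- A two-dimensional subspace through `a ≠ 0` is spanned by `a` and another vector. -/
theorem exists_li_of_finrank_two {V : Type*} [AddCommGroup V] [Module K V] [FiniteDimensional K V]
    {U : Submodule K V} (hU : Module.finrank K ↥U = 2) {a : V} (ha : a ≠ 0) :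
    ∃ w ∈ U, LinearIndependent K ![a, w] := by
  by_contra hcon
  push Not at hcon
  have hle : U ≤ Submodule.span K {a} := fun u hu => by
    by_contra hne
    exact hcon u hu ((LinearIndependent.pair_iff' ha).2 fun c hc =>
      hne (hc ▸ Submodule.smul_mem _ c (Submodule.mem_span_singleton_self a)))
  have := Submodule.finrank_mono hle
  rw [hU, finrank_span_singleton ha] at this
  omega

end Field

end Groth.CubicGeom
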