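import Mathlib.Algebra.MvPolynomial.Equiv
import Mathlib.RingTheory.MvPolynomial.Homogeneous
import Mathlib.RingTheory.Polynomial.GaussLemma
import Mathlib.RingTheory.Polynomial.UniqueFactorization
import Mathlib.RingTheory.UniqueFactorizationDomain.GCDMonoid
import Mathlib.RingTheory.Localization.Integral
import Mathlib.Algebra.MvPolynomial.Funext
import Mathlib.Algebra.MvPolynomial.Nilpotent
import Mathlib.LinearAlgebra.FiniteDimensional.Basic

/-!
# Finiteness of the common zeros of two coprime forms in three variables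
-/

set_option autoImplicit false

namespace Groth.CubicGeom

open MvPolynomial Polynomial.IsPrimitive
open scoped nonZeroDivisors

variable {K : Type*} [Field K]

/-- Factors of a nonzero homogeneous polynomial are homogeneous. -/
theorem exists_isHomogeneous_of_mul {σ : Type*} {G H : MvPolynomial σ K} {d : ℕ}
    (h : (G * H).IsHomogeneous d) (hGH : G * H ≠ 0) :
    ∃ i j, i + j = d ∧ G.IsHomogeneous i ∧ H.IsHomogeneous j := by
  classical
  let φ : MvPolynomial σ K →+* Polynomial (MvPolynomial σ K) :=
    eval₂Hom (Polynomial.C.comp C) fun i => Polynomial.C (X i) * Polynomial.X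
  have hφ : ∀ (P : MvPolynomial σ K) (j : ℕ), (φ P).coeff j = homogeneousComponent j P := by
    intro P j
    induction P using MvPolynomial.induction_on' with
    | monomial a c =>
      have h1 : φ (monomial a c) = Polynomial.C (monomial a c) * Polynomial.X ^ a.degree := by
        simp only [φ, eval₂Hom_monomial, RingHom.comp_apply, Finsupp.prod, mul_pow,
          Finset.prod_mul_distrib, Finset.prod_pow_eq_pow_sum, ← map_pow, ← map_prod]
        rw [← mul_assoc, ← map_mul, monomial_eq, Finsupp.degree_apply, Finsupp.prod]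
      rw [h1, Polynomial.coeff_C_mul_X_pow,
        homogeneousComponent_of_mem (isHomogeneous_monomial c rfl)]
    | add p q hp hq => rw [map_add, Polynomial.coeff_add, hp, hq, map_add]
  have hne : ∀ P : MvPolynomial σ K, P ≠ 0 → φ P ≠ 0 := by
    intro P hP h0
    refine hP ?_
    rw [← sum_homogeneousComponent P]
    exact Finset.sum_eq_zero fun i _ => by rw [← hφ, h0, Polynomial.coeff_zero]
  have hG := hne G (left_ne_zero_of_mul hGH)
  have hH := hne H (right_ne_zero_of_mul hGH)
  have hFC : φ (G * H) = Polynomial.C (G * H) * Polynomial.X ^ d := by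
    ext1 j
    rw [hφ, Polynomial.coeff_C_mul_X_pow, homogeneousComponent_of_mem h]
  have h1 := Polynomial.natDegree_mul hG hH
  have h2 := Polynomial.natTrailingDegree_mul hG hH
  rw [← map_mul, hFC, Polynomial.natDegree_C_mul_X_pow d _ hGH] at h1
  rw [← map_mul, hFC, Polynomial.natTrailingDegree_mul_X_pow
    (Polynomial.C_ne_zero.2 hGH), Polynomial.natTrailingDegree_C, zero_add] at h2
  have h3 := Polynomial.natTrailingDegree_le_natDegree (φ G)
  have h4 := Polynomial.natTrailingDegree_le_natDegree (φ H)
  have key : ∀ P : MvPolynomial σ K, (φ P).natTrailingDegree = (φ P).natDegree →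
      P.IsHomogeneous (φ P).natDegree := by
    intro P hP a ha
    have hc : (φ P).coeff a.degree ≠ 0 := by
      rw [hφ]
      intro h0
      have := congrArg (coeff a) h0
      rw [coeff_homogeneousComponent, if_pos rfl, coeff_zero] at this
      exact ha this
    have hle := Polynomial.le_natDegree_of_ne_zero hc
    have hge := Polynomial.natTrailingDegree_le_of_ne_zero hc
    rw [Pi.one_def, ← Finsupp.degree_eq_weight_one]
    omega
  exact ⟨_, _, h1.symm, key G (by omega), key H (by omega)⟩

/-- Elimination of the main variable of two coprime polynomials. -/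
theorem exists_elim {R : Type*} [CommRing R] [IsDomain R] [UniqueFactorizationMonoid R]
    (f g : Polynomial R) (hf : f ≠ 0) (hrel : IsRelPrime f g) :
    ∃ r : R, r ≠ 0 ∧ ∃ A B : Polynomial R, A * f + B * g = Polynomial.C r := by
  classical
  letI : NormalizedGCDMonoid R := Nonempty.some inferInstance
  let L := FractionRing R
  have hcop : IsCoprime (f.map (algebraMap R L)) (g.map (algebraMap R L)) := by
    rw [← isRelPrime_iff_isCoprime]
    intro d hd1 hd2
    have hf' : f.map (algebraMap R L) ≠ 0 :=
      (Polynomial.map_ne_zero_iff (IsFractionRing.injective R L)).2 hf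
    have hd0 : d ≠ 0 := fun h => hf' (by simpa [h] using hd1)
    obtain ⟨b, hb, hmap⟩ := IsLocalization.integerNormalization_spec R⁰ d
    set e := IsLocalization.integerNormalization R⁰ d with he
    have hb0 : algebraMap R L b ≠ 0 := IsFractionRing.to_map_ne_zero_of_mem_nonZeroDivisors hb
    have hdvd : ∀ q : Polynomial R, d ∣ q.map (algebraMap R L) → e.primPart ∣ q := by
      intro q hq
      refine (Polynomial.isPrimitive_primPart e).dvd_of_fraction_map_dvd_fraction_map (K := L) ?_
      have h1 : e.primPart.map (algebraMap R L) ∣ e.map (algebraMap R L) :=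
        Polynomial.map_dvd _ e.primPart_dvd
      rw [hmap, Algebra.smul_def, IsScalarTower.algebraMap_apply R L (Polynomial L)] at h1
      exact h1.trans ((IsUnit.mul_left_dvd ((IsUnit.mk0 _ hb0).map (algebraMap L (Polynomial L)))).2 hq)
    exact Polynomial.isUnit_or_eq_zero_of_isUnit_integerNormalization_primPart hd0 (hrel (hdvd f hd1) (hdvd g hd2))
  obtain ⟨a, b, hab⟩ := hcop
  obtain ⟨s, hs, hsa⟩ := IsLocalization.integerNormalization_spec R⁰ a
  obtain ⟨t, ht, htb⟩ := IsLocalization.integerNormalization_spec R⁰ b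
  refine ⟨s * t, mul_ne_zero (nonZeroDivisors.ne_zero hs) (nonZeroDivisors.ne_zero ht),
    Polynomial.C t * IsLocalization.integerNormalization R⁰ a,
    Polynomial.C s * IsLocalization.integerNormalization R⁰ b, ?_⟩
  apply Polynomial.map_injective (algebraMap R L) (IsFractionRing.injective R L)
  simp only [Polynomial.map_add, Polynomial.map_mul, Polynomial.map_C, hsa, htb, map_mul,
    Algebra.smul_def, IsScalarTower.algebraMap_apply R L (Polynomial L), Polynomial.algebraMap_eq]
  linear_combination (Polynomial.C (algebraMap R L s) * Polynomial.C (algebraMap R L t)) * hab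

/-- A nonzero polynomial in two variables vanishing on lines through the origin bounds their slopes. -/
theorem exists_finite_slopes [Infinite K] {R : MvPolynomial (Fin 2) K} (hR : R ≠ 0) :
    ∃ S : Set K, S.Finite ∧ ∀ x y : K, x ≠ 0 → (∀ s : K, eval (s • ![x, y]) R = 0) → y / x ∈ S := by
  classical
  obtain ⟨d, hd⟩ : ∃ d, homogeneousComponent d R ≠ 0 := by
    by_contra h
    push Not at h
    exact hR (by rw [← sum_homogeneousComponent R]; simp [h])
  set h := homogeneousComponent d R with hh
  have hhom : h.IsHomogeneous d := homogeneousComponent_isHomogeneous d R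
  let P : Polynomial K := MvPolynomial.aeval ![(1 : Polynomial K), Polynomial.X] h
  have hP : ∀ t, P.eval t = eval ![1, t] h := fun t => by
    simp only [P, ← Polynomial.coe_evalRingHom]
    rw [MvPolynomial.map_aeval]
    show eval₂Hom _ _ h = eval₂Hom (RingHom.id K) _ h
    congr 2 <;> (first | (ext i; fin_cases i <;> simp) | (ext r; simp) | skip)
  have hscale : ∀ (e : ℕ) (q : MvPolynomial (Fin 2) K), q.IsHomogeneous e → ∀ (s : K) (v : Fin 2 → K),
      eval (s • v) q = s ^ e * eval v q := by
    intro e q hq s v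
    rw [eval_eq', eval_eq', Finset.mul_sum]
    refine Finset.sum_congr rfl fun c hc => ?_
    simp only [Pi.smul_apply, smul_eq_mul, mul_pow, Finset.prod_mul_distrib]
    rw [Finset.prod_pow_eq_pow_sum]
    have : (∑ i, c i) = e := by
      rw [← hq (mem_support_iff.1 hc), Pi.one_def, ← Finsupp.degree_eq_weight_one, Finsupp.degree_eq_sum]
    rw [this]; ring
  have hP0 : P ≠ 0 := by
    intro h0
    refine hd (MvPolynomial.funext fun v => ?_)
    rw [map_zero]
    have key : ∀ v : Fin 2 → K, eval v (X 0 * h) = 0 := fun v => by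
      by_cases hv : v 0 = 0
      · simp [hv]
      · have : v = v 0 • ![1, v 1 / v 0] := by ext i; fin_cases i <;> simp [mul_div_cancel₀ _ hv]
        rw [map_mul, this, hscale d h hhom, ← hP, h0]
        simp
    have : X 0 * h = 0 := MvPolynomial.funext fun v => by rw [key, map_zero]
    rw [(mul_eq_zero.1 this).resolve_left (X_ne_zero _), map_zero]
  refine ⟨{t | P.IsRoot t}, Polynomial.finite_setOf_isRoot hP0, fun x y hx hv => ?_⟩
  have hpoly : (∑ i ∈ Finset.range (R.totalDegree + 1),
      Polynomial.C (eval ![x, y] (homogeneousComponent i R)) * Polynomial.X ^ i) = 0 := by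
    refine Polynomial.funext fun s => ?_
    rw [Polynomial.eval_zero, ← hv s]
    conv_rhs => rw [← sum_homogeneousComponent R]
    simp only [Polynomial.eval_finset_sum, map_sum, Polynomial.eval_mul, Polynomial.eval_C, Polynomial.eval_pow,
      Polynomial.eval_X]
    exact Finset.sum_congr rfl fun i _ => by
      rw [hscale i _ (homogeneousComponent_isHomogeneous i R), mul_comm]
  have hdle : d ∈ Finset.range (R.totalDegree + 1) := by
    rw [Finset.mem_range]
    by_contra hlt
    exact hd (homogeneousComponent_eq_zero d R (by omega))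
  have h0 : eval ![x, y] h = 0 := by
    have := congrArg (Polynomial.coeff · d) hpoly
    simpa [Polynomial.finset_sum_coeff, Polynomial.coeff_C_mul, Polynomial.coeff_X_pow, hdle] using this
  show P.eval (y / x) = 0
  have : (![x, y] : Fin 2 → K) = x • ![1, y / x] := by ext i; fin_cases i <;> simp [mul_div_cancel₀ _ hx]
  rw [this, hscale d h hhom, ← hP] at h0
  exact (mul_eq_zero.1 h0).resolve_left (pow_ne_zero _ hx)

/-- For coprime polynomials in three variables some nonzero polynomial in two of them vanishes on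
their common zeros. -/
theorem exists_elim_var (i : Fin 3) (f g : MvPolynomial (Fin 3) K) (hf : f ≠ 0) (hrel : IsRelPrime f g) :
    ∃ R : MvPolynomial (Fin 2) K, R ≠ 0 ∧ ∀ v, eval v f = 0 → eval v g = 0 →
      eval (fun j => v (Equiv.swap 0 i j.succ)) R = 0 := by
  let σ := MvPolynomial.renameEquiv K (Equiv.swap (0 : Fin 3) i)
  let e := σ.trans (MvPolynomial.finSuccEquiv K 2)
  have hrel' : IsRelPrime (e f) (e g) := by
    intro d hd1 hd2
    have h1 : e.symm d ∣ f := by simpa using map_dvd e.symm hd1
    have h2 : e.symm d ∣ g := by simpa using map_dvd e.symm hd2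
    simpa using (hrel h1 h2).map e
  obtain ⟨r, hr, A, B, hAB⟩ := exists_elim (e f) (e g) (e.injective.ne hf |> fun h => by simpa using h) hrel'
  refine ⟨r, hr, fun v h1 h2 => ?_⟩
  set s : Fin 2 → K := fun j => v (Equiv.swap 0 i j.succ) with hs
  have hev : ∀ p, eval v p = ((e p).map (eval s)).eval (v i) := fun p => by
    have hv : (Fin.cons (v i) s : Fin 3 → K) = v ∘ Equiv.swap 0 i := by
      ext j; refine Fin.cases ?_ (fun j => ?_) j <;> simp [hs]
    have := eval_eq_eval_mv_eval' s (v i) (σ p)
    rw [hv, show σ p = rename (Equiv.swap (0 : Fin 3) i) p from rfl, eval_rename] at this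
    rw [show (v ∘ Equiv.swap 0 i) ∘ Equiv.swap 0 i = v by ext j; simp] at this
    exact this
  have := congrArg (fun q => (Polynomial.map (eval s) q).eval (v i)) hAB
  simp only [Polynomial.map_add, Polynomial.map_mul, Polynomial.eval_add, Polynomial.eval_mul,
    Polynomial.map_C, Polynomial.eval_C, ← hev, h1, h2, mul_zero, add_zero] at this
  exact this.symm

/-- Two coprime polynomials in three variables have only finitely many common zero lines. -/
theorem finite_common_zero_lines [Infinite K] (f g : MvPolynomial (Fin 3) K) (hf : f ≠ 0) (hrel : IsRelPrime f g) :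
    {U : Submodule K (Fin 3 → K) | Module.finrank K ↥U = 1 ∧
      ∀ x ∈ U, eval x f = 0 ∧ eval x g = 0}.Finite := by
  obtain ⟨R₀, hR₀, h₀⟩ := exists_elim_var 0 f g hf hrel
  obtain ⟨R₁, hR₁, h₁⟩ := exists_elim_var 1 f g hf hrel
  obtain ⟨R₂, hR₂, h₂⟩ := exists_elim_var 2 f g hf hrel
  obtain ⟨S₀, hS₀, k₀⟩ := exists_finite_slopes hR₀
  obtain ⟨S₁, hS₁, k₁⟩ := exists_finite_slopes hR₁
  obtain ⟨S₂, hS₂, k₂⟩ := exists_finite_slopes (R := rename (Equiv.swap (0 : Fin 2) 1) R₂)
    ((map_ne_zero_iff _ (rename_injective _ (Equiv.injective _))).2 hR₂)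
  let P : Set (Fin 3 → K) := (fun p : K × K => ![1, p.1, p.2]) '' ((S₂) ×ˢ insert 0 S₁) ∪
    (fun z : K => ![0, 1, z]) '' S₀ ∪ {![0, 0, 1]}
  have hP : P.Finite := (((hS₂).prod (hS₁.insert 0)).image _).union (hS₀.image _) |>.union (Set.finite_singleton _)
  refine (hP.image fun v => Submodule.span K {v}).subset ?_
  rintro U ⟨hU, hz⟩
  obtain ⟨⟨v, hvU⟩, hv0, hgen⟩ := finrank_eq_one_iff'.1 hU
  have hv : v ≠ 0 := fun h => hv0 (Subtype.ext h)
  have hspan : ∀ c : K, c ≠ 0 → Submodule.span K {c • v} = U := fun c hc => by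
    rw [Submodule.span_singleton_smul_eq (IsUnit.mk0 c hc)]
    refine le_antisymm ((Submodule.span_singleton_le_iff_mem _ _).2 hvU) fun x hx => ?_
    obtain ⟨a, ha⟩ := hgen ⟨x, hx⟩
    exact Submodule.mem_span_singleton.2 ⟨a, congrArg Subtype.val ha⟩
  have hline : ∀ s : K, eval (s • v) f = 0 ∧ eval (s • v) g = 0 := fun s => hz _ (U.smul_mem s hvU)
  have e01 : Equiv.swap (0 : Fin 3) 1 (Fin.succ (0 : Fin 2)) = 0 := by decide
  have e02 : Equiv.swap (0 : Fin 3) 1 (Fin.succ (1 : Fin 2)) = 2 := by decide
  have e21 : Equiv.swap (0 : Fin 3) 2 (Fin.succ (0 : Fin 2)) = 1 := by decide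
  have e22 : Equiv.swap (0 : Fin 3) 2 (Fin.succ (1 : Fin 2)) = 0 := by decide
  by_cases hx : v 0 = 0
  · by_cases hy : v 1 = 0
    · have hz2 : v 2 ≠ 0 := fun h => hv (by ext i; fin_cases i <;> assumption)
      exact ⟨![0, 0, 1], .inr rfl, (by
        rw [← hspan (v 2)⁻¹ (inv_ne_zero hz2)]
        congr 2; ext i; fin_cases i <;> simp [hx, hy, hz2])⟩
    · refine ⟨![0, 1, v 2 / v 1], .inl (.inr ⟨_, k₀ _ _ hy fun s => ?_, rfl⟩), ?_⟩
      · have := h₀ _ (hline s).1 (hline s).2
        rw [← this]; congr 1; congr 1; ext j; fin_cases j <;> simp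
      · rw [← hspan (v 1)⁻¹ (inv_ne_zero hy)]
        congr 2; ext i; fin_cases i <;> simp [hx, hy, div_eq_inv_mul]
  · refine ⟨![1, v 1 / v 0, v 2 / v 0], .inl (.inl ⟨(v 1 / v 0, v 2 / v 0), ⟨k₂ _ _ hx fun s => ?_,
      Set.mem_insert_of_mem _ (k₁ _ _ hx fun s => ?_)⟩, rfl⟩), ?_⟩
    · have := h₂ _ (hline s).1 (hline s).2
      rw [eval_rename, ← this]; congr 1; congr 1; ext j; fin_cases j <;> simp [e21, e22, show Equiv.swap (0 : Fin 3) 2 1 = 1 by decide]
    · have := h₁ _ (hline s).1 (hline s).2
      rw [← this]; congr 1; congr 1; ext j; fin_cases j <;> simp [e01, e02, show Equiv.swap (0 : Fin 3) 1 2 = 2 by decide]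
    · rw [← hspan (v 0)⁻¹ (inv_ne_zero hx)]
      congr 2; ext i; fin_cases i <;> simp [hx, div_eq_inv_mul]

end Groth.CubicGeom
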