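import Mathlib

/-!
Fewer homogeneous forms than variables over an algebraically closed field have a common nonzero zero.
-/

set_option autoImplicit false

namespace Groth.CubicGeom

open MvPolynomial

variable {K : Type*} [Field K] {n : ℕ}

noncomputable def killFirst (K : Type*) [Field K] {n : ℕ} (i : ℕ) :
    MvPolynomial (Fin n) K →ₐ[K] MvPolynomial (Fin n) K :=
  aeval fun j => if (j : ℕ) < i then 0 else X j

theorem killFirst_succ (i : ℕ) :
    (killFirst (n := n) K (i + 1)).comp (killFirst K i) = killFirst K (i + 1) := by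
  refine MvPolynomial.algHom_ext fun j => ?_
  by_cases h : (j : ℕ) < i
  · simp [killFirst, h]; omega
  · simp [killFirst, h]

theorem le_height_ker_killFirst : ∀ i : ℕ, i ≤ n →
    (i : ℕ∞) ≤ (RingHom.ker (killFirst (n := n) K i).toRingHom).height := by
  intro i
  induction i with
  | zero => simp
  | succ i ih =>
    intro hi
    haveI : ∀ m, (RingHom.ker (killFirst (n := n) K m).toRingHom).IsPrime := fun m => RingHom.ker_isPrime _
    have hlt : RingHom.ker (killFirst (n := n) K i).toRingHom
        < RingHom.ker (killFirst (n := n) K (i + 1)).toRingHom := by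
      refine lt_of_le_of_ne (fun p hp => ?_) (fun h => ?_)
      · simp only [RingHom.mem_ker, AlgHom.toRingHom_eq_coe, RingHom.coe_coe] at hp ⊢
        rw [← killFirst_succ i, AlgHom.comp_apply, hp, map_zero]
      · have h1 : (X ⟨i, hi⟩ : MvPolynomial (Fin n) K) ∈ RingHom.ker (killFirst (n := n) K (i + 1)).toRingHom := by
          simp [killFirst]
        rw [← h] at h1
        simp [killFirst] at h1
    calc ((i + 1 : ℕ) : ℕ∞) = (i : ℕ∞) + 1 := by push_cast; rfl
      _ ≤ _ + 1 := by gcongr; exact ih (by omega)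
      _ ≤ _ := Ideal.height_add_one_le_of_lt_of_isPrime hlt

theorem exists_common_zero [IsAlgClosed K] {m : ℕ} (hm : m < n) (s : Fin m → MvPolynomial (Fin n) K)
    (h0 : ∀ i, eval 0 (s i) = 0) : ∃ v : Fin n → K, v ≠ 0 ∧ ∀ i, eval v (s i) = 0 := by
  classical
  by_contra hcon
  push Not at hcon
  set I := Ideal.span (Set.range s) with hI
  set M := RingHom.ker (killFirst (n := n) K n).toRingHom with hM
  haveI : M.IsPrime := RingHom.ker_isPrime _
  have hMmem : ∀ p : MvPolynomial (Fin n) K, p ∈ M ↔ eval 0 p = 0 := by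
    intro p
    have : killFirst (n := n) K n = (Algebra.ofId K (MvPolynomial (Fin n) K)).comp (aeval (0 : Fin n → K)) :=
      MvPolynomial.algHom_ext fun j => by simp [killFirst]
    rw [hM, RingHom.mem_ker, AlgHom.toRingHom_eq_coe, RingHom.coe_coe, this, AlgHom.comp_apply]
    simp [aeval_eq_eval]
  have hIM : I ≤ M := Ideal.span_le.2 (by rintro _ ⟨i, rfl⟩; exact (hMmem _).2 (h0 i))
  have hMI : M ≤ I.radical := by
    intro p hp
    rw [← vanishingIdeal_zeroLocus_eq_radical (K := K), mem_vanishingIdeal_iff]
    intro x hx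
    have : x = 0 := by
      by_contra hx0
      obtain ⟨i, hi⟩ := hcon x hx0
      exact hi (by simpa [aeval_eq_eval] using hx (s i) (Ideal.subset_span ⟨i, rfl⟩))
    subst this
    simpa [aeval_eq_eval] using (hMmem p).1 hp
  have hmin : M ∈ I.minimalPrimes :=
    ⟨⟨inferInstance, hIM⟩, fun Q hQ _ => le_trans hMI ((hQ.1.radical_le_iff).2 hQ.2)⟩
  have h1 := Ideal.height_le_card_of_mem_minimalPrimes_span (Set.finite_range s) hmin
  have h2 := le_height_ker_killFirst (K := K) (n := n) n le_rfl
  have h3 : (Set.range s).ncard ≤ m := by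
    rw [← Set.image_univ]
    refine (Set.ncard_image_le).trans (by simp)
  have : (n : ℕ∞) ≤ (m : ℕ∞) := h2.trans (h1.trans (by exact_mod_cast h3))
  have := ENat.coe_le_coe.1 this
  omega

end Groth.CubicGeom
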