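import Groth.Agent.CubicGeom.Eckardt

/-!
Eckardt points and involutions in polynomial language.
-/

set_option autoImplicit false

namespace Groth.CubicGeom

open MvPolynomial

variable {K : Type*} [Field K] [CharZero K] [IsAlgClosed K]
variable {f : MvPolynomial (Fin 4) K}

/-- The condition on three lines used in the statements. -/
def PolyEckardt (f : MvPolynomial (Fin 4) K) (e : Fin 4 → K) : Prop :=
  ∃ U : Fin 3 → Submodule K (Fin 4 → K), Function.Injective U ∧
    ∀ i : Fin 3, Module.finrank K ↥(U i) = 2 ∧ e ∈ U i ∧ ∀ u ∈ U i, eval u f = 0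

/-- The condition on involutions used in the statements. -/
def PolyInvolution (f : MvPolynomial (Fin 4) K) (e : Fin 4 → K) (A : Matrix (Fin 4) (Fin 4) K) : Prop :=
  A * A = 1 ∧ Module.finrank K ↥(LinearMap.ker (Matrix.toLin' A - LinearMap.id)) = 3 ∧
    A.mulVec e = -e ∧ ∃ c : K, subst A f = C c * f

theorem polyEckardt_iff (hf : f.IsHomogeneous 3) (e : Fin 4 → K) :
    PolyEckardt f e ↔ (ofPoly f).IsEckardt e := by
  refine exists_congr fun U => and_congr_right fun _ => forall_congr' fun i => ?_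
  simp only [Form.IsLine, Form.OnSurf, ofPoly_self_eq_zero hf]
  tauto

theorem onSurf_iff (hf : f.IsHomogeneous 3) (U : Submodule K (Fin 4 → K)) :
    (ofPoly f).OnSurf U ↔ ∀ u ∈ U, eval u f = 0 :=
  forall₂_congr fun u _ => ofPoly_self_eq_zero hf u

theorem polyInvolution_iff (hf : f.IsHomogeneous 3) (hT : (ofPoly f).Smooth) {e : Fin 4 → K}
    (he : e ≠ 0) (h0 : eval e f = 0) (A : Matrix (Fin 4) (Fin 4) K) :
    PolyInvolution f e A ↔ ∃ ψ : (Fin 4 → K) →ₗ[K] K, ψ e = 1 ∧
      (∀ x, (ofPoly f).tri e x x = 2 * ψ x * (ofPoly f).tri e e x) ∧ Matrix.toLin' A = Form.refl ψ e := by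
  have h0' := (ofPoly_self_eq_zero hf e).2 h0
  constructor
  · rintro ⟨-, hk, hAe, c, hc⟩
    rw [subst_eq_iff] at hc
    obtain ⟨ψ, hψ, hA⟩ := Form.involution_eq_refl (T := ofPoly f) (Module.finrank_fin_fun K) hT he
      (A := Matrix.toLin' A) hk (by simpa using hAe)
    refine ⟨ψ, hψ, Form.psi_of_preserves (Module.finrank_fin_fun K) hT he h0' hψ (c := c) (fun x => ?_), hA⟩
    rw [← hA, Matrix.toLin'_apply, ofPoly_self hf, ofPoly_self hf, hc]; ring
  · rintro ⟨ψ, hψ, hq, hA⟩
    have hmv : ∀ x, A.mulVec x = Form.refl ψ e x := fun x => by rw [← Matrix.toLin'_apply, hA]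
    refine ⟨?_, ?_, ?_, 1, ?_⟩
    · apply Matrix.toLin'.injective
      rw [Matrix.toLin'_mul, Matrix.toLin'_one, hA]
      exact LinearMap.ext (Form.refl_refl hψ)
    · have hk : LinearMap.ker (Matrix.toLin' A - LinearMap.id) = LinearMap.ker ψ := by
        ext x
        simp [hA, Form.refl_apply, he]
      rw [hk]
      have := Form.finrank_ker_of_ne_zero (φ := ψ) (fun hh => by simp [hh] at hψ)
      rw [Module.finrank_fin_fun] at this
      omega
    · rw [hmv]; exact Form.refl_self hψ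
    · rw [subst_eq_iff]
      intro x
      have := Form.tri_refl (T := ofPoly f) h0' hq x
      rw [ofPoly_self hf, ofPoly_self hf] at this
      rw [hmv, one_mul]
      exact mul_left_cancel₀ (by norm_num) this

variable (hf : f.IsHomogeneous 3)
  (hsm : ∀ v : Fin 4 → K, v ≠ 0 → eval v f = 0 → ∃ i : Fin 4, eval v (pderiv i f) ≠ 0)
include hf hsm

theorem exists_psi_unique {e : Fin 4 → K} (he : e ≠ 0) (hE : PolyEckardt f e) :
    ∃ ψ : (Fin 4 → K) →ₗ[K] K, ψ e = 1 ∧
      (∀ x, (ofPoly f).tri e x x = 2 * ψ x * (ofPoly f).tri e e x) ∧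
      ∀ A, PolyInvolution f e A ↔ Matrix.toLin' A = Form.refl ψ e := by
  have hT := smooth_ofPoly hf hsm
  have hE' := (polyEckardt_iff hf e).1 hE
  have h0' := hE'.self_eq_zero (Module.finrank_fin_fun K) hT
  have h0 := (ofPoly_self_eq_zero hf e).1 h0'
  obtain ⟨ψ, hψ, hq⟩ := hE'.exists_psi (Module.finrank_fin_fun K) hT he
  refine ⟨ψ, hψ, hq, fun A => ?_⟩
  rw [polyInvolution_iff hf hT he h0]
  refine ⟨?_, fun h => ⟨ψ, hψ, hq, h⟩⟩
  rintro ⟨ψ', hψ', hq', h⟩
  rw [h, Form.psi_unique hT he h0' hψ' hψ hq' hq]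

theorem existsUnique_involution {e : Fin 4 → K} (he : e ≠ 0) (hE : PolyEckardt f e) :
    ∃! A, PolyInvolution f e A := by
  obtain ⟨ψ, -, -, h⟩ := exists_psi_unique hf hsm he hE
  exact ⟨LinearMap.toMatrix' (Form.refl ψ e), (h _).2 (Matrix.toLin'_toMatrix' _), fun A hA =>
    Matrix.toLin'.injective (by rw [(h A).1 hA, Matrix.toLin'_toMatrix'])⟩

theorem eckardt_of_involution {p : Fin 4 → K} (hp : p ≠ 0) (h0 : eval p f = 0)
    {A : Matrix (Fin 4) (Fin 4) K} (hA : PolyInvolution f p A) : PolyEckardt f p := by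
  have hT := smooth_ofPoly hf hsm
  obtain ⟨ψ, hψ, hq, -⟩ := (polyInvolution_iff hf hT hp h0 A).1 hA
  exact (polyEckardt_iff hf p).2 (Form.IsEckardt.of_reflection (Module.finrank_fin_fun K) hT hp
    ((ofPoly_self_eq_zero hf p).2 h0) hψ hq)

theorem third_eckardt {e e' : Fin 4 → K} (he : e ≠ 0) (he' : e' ∉ Submodule.span K {e})
    (hE : PolyEckardt f e) (hE' : PolyEckardt f e')
    (hns : ¬ ∀ u ∈ Submodule.span K {e, e'}, eval u f = 0) :
    ∃ ψ : (Fin 4 → K) →ₗ[K] K, ψ e = 1 ∧ ψ e' ≠ 0 ∧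
      (∀ x, (ofPoly f).tri e x x = 2 * ψ x * (ofPoly f).tri e e x) ∧
      (∀ A, PolyInvolution f e A ↔ Matrix.toLin' A = Form.refl ψ e) ∧
      PolyEckardt f (Form.refl ψ e e') ∧ Form.refl ψ e e' ∈ Submodule.span K {e, e'} ∧
      Form.refl ψ e e' ∉ Submodule.span K {e} ∧ Form.refl ψ e e' ∉ Submodule.span K {e'} ∧
      ∀ u ∈ Submodule.span K {e, e'}, eval u f = 0 →
        u ∈ Submodule.span K {e} ∨ u ∈ Submodule.span K {e'} ∨ u ∈ Submodule.span K {Form.refl ψ e e'} := by
  obtain ⟨ψ, hψ, hq, hA⟩ := exists_psi_unique hf hsm he hE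
  obtain ⟨-, hne, hE'', hz⟩ := Form.IsEckardt.third (Module.finrank_fin_fun K) (smooth_ofPoly hf hsm) he
    ((polyEckardt_iff hf e).1 hE) ((polyEckardt_iff hf e').1 hE') he'
    (by rwa [onSurf_iff hf]) hψ hq
  refine ⟨ψ, hψ, hne, hq, hA, (polyEckardt_iff hf _).2 hE'', ?_, ?_, ?_,
    fun u hu h => hz u hu ((ofPoly_self_eq_zero hf u).2 h)⟩
  · rw [Form.refl_apply]
    exact Submodule.sub_mem _ (Submodule.subset_span (Or.inr rfl))
      (Submodule.smul_mem _ _ (Submodule.subset_span (Or.inl rfl)))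
  · intro hm
    rw [Form.refl_apply] at hm
    have h2 := Submodule.add_mem _ hm (Submodule.smul_mem _ (2 * ψ e') (Submodule.mem_span_singleton_self e))
    rw [sub_add_cancel] at h2
    exact he' h2
  · intro hm
    obtain ⟨a, ha⟩ := Submodule.mem_span_singleton.1 hm
    rw [Form.refl_apply] at ha
    by_cases h1 : a = 1
    · rw [h1, one_smul] at ha
      have : (2 * ψ e') • e = 0 := by linear_combination (norm := module) ha
      simp [he, hne] at this
    · refine he' (Submodule.mem_span_singleton.2 ⟨(2 * ψ e') / (1 - a), ?_⟩)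
      have h1' : (1 : K) - a ≠ 0 := sub_ne_zero.2 (Ne.symm h1)
      rw [div_eq_inv_mul, mul_smul, inv_smul_eq_iff₀ h1']
      linear_combination (norm := module) ha

theorem line_through_two {e e' : Fin 4 → K} (he : e ≠ 0) (he' : e' ∉ Submodule.span K {e})
    (hE : PolyEckardt f e) (hE' : PolyEckardt f e') :
    Xor (∀ u ∈ Submodule.span K {e, e'}, eval u f = 0)
      (∃ e'' : Fin 4 → K, e'' ∈ Submodule.span K {e, e'} ∧ e'' ∉ Submodule.span K {e} ∧
        e'' ∉ Submodule.span K {e'} ∧ PolyEckardt f e'' ∧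
        ∀ u ∈ Submodule.span K {e, e'}, eval u f = 0 →
          u ∈ Submodule.span K {e} ∨ u ∈ Submodule.span K {e'} ∨ u ∈ Submodule.span K {e''}) := by
  by_cases h : ∀ u ∈ Submodule.span K {e, e'}, eval u f = 0
  · refine Or.inl ⟨h, ?_⟩
    rintro ⟨e'', h1, h2, h3, -, h5⟩
    -- four independent points of the line against three
    have hli : LinearIndependent K ![e, e'] := (LinearIndependent.pair_iff' he).2 fun a ha =>
      he' (ha ▸ Submodule.smul_mem _ a (Submodule.mem_span_singleton_self e))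
    obtain ⟨a, b, rfl⟩ := Submodule.mem_span_pair.1 h1
    have hb : b ≠ 0 := by rintro rfl; exact h2 (by simpa using Submodule.smul_mem _ a (Submodule.mem_span_singleton_self e))
    set p := a • e + (2 * b) • e'
    have hp : p ∈ Submodule.span K {e, e'} := Submodule.mem_span_pair.2 ⟨a, 2 * b, rfl⟩
    have key := fun x y (e0 : x • e + y • e' = 0) => LinearIndependent.pair_iff.1 hli x y e0
    have ha : a ≠ 0 := by rintro rfl; exact h3 (by simpa using Submodule.smul_mem _ b (Submodule.mem_span_singleton_self e'))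
    rcases h5 p hp (h p hp) with hh | hh | hh <;> obtain ⟨c, hc⟩ := Submodule.mem_span_singleton.1 hh
    · have := (key (c - a) (-(2 * b)) (by linear_combination (norm := module) hc)).2
      simp [hb] at this
    · have := (key (-a) (c - 2 * b) (by linear_combination (norm := module) hc)).1
      simp [ha] at this
    · obtain ⟨e1, e2⟩ := key (c * a - a) (c * b - 2 * b) (by linear_combination (norm := module) hc)
      have : c = 1 := by
        have : (c - 1) * a = 0 := by linear_combination e1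
        simpa [ha, sub_eq_zero] using this
      subst this
      exact hb (by linear_combination -e2)
  · obtain ⟨ψ, -, -, -, -, hE'', h1, h2, h3, h4⟩ := third_eckardt hf hsm he he' hE hE' h
    exact Or.inr ⟨⟨_, h1, h2, h3, hE'', h4⟩, h⟩

theorem commute_of_onSurf {e e' : Fin 4 → K} (he : e ≠ 0) (he' : e' ∉ Submodule.span K {e})
    (hE : PolyEckardt f e) (hE' : PolyEckardt f e')
    (hL : ∀ u ∈ Submodule.span K {e, e'}, eval u f = 0)
    {A A' : Matrix (Fin 4) (Fin 4) K} (hA : PolyInvolution f e A) (hA' : PolyInvolution f e' A') :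
    (∃ c : K, A * A' = c • (A' * A)) ∧ (∃ d : K, A.mulVec e' = d • e') ∧ (∃ d : K, A'.mulVec e = d • e) := by
  have hT := smooth_ofPoly hf hsm
  have he'0 : e' ≠ 0 := fun hh => he' (hh ▸ Submodule.zero_mem _)
  have hne : e ∉ Submodule.span K {e'} := fun hh => by
    obtain ⟨a, ha⟩ := Submodule.mem_span_singleton.1 hh
    have : a ≠ 0 := fun h0 => he (by rw [← ha, h0, zero_smul])
    exact he' (Submodule.mem_span_singleton.2 ⟨a⁻¹, by rw [← ha, smul_smul, inv_mul_cancel₀ this, one_smul]⟩)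
  obtain ⟨ψ, hψ, hq, hiff⟩ := exists_psi_unique hf hsm he hE
  obtain ⟨ψ', hψ', hq', hiff'⟩ := exists_psi_unique hf hsm he'0 hE'
  have hE1 := (polyEckardt_iff hf e).1 hE
  have hE2 := (polyEckardt_iff hf e').1 hE'
  have z : ψ e' = 0 := hE1.psi_eq_zero_of_onSurf (Module.finrank_fin_fun K) hT he hE2 he'
    ((onSurf_iff hf _).2 hL) hψ hq
  have z' : ψ' e = 0 := hE2.psi_eq_zero_of_onSurf (Module.finrank_fin_fun K) hT he'0 hE1 hne
    ((onSurf_iff hf _).2 (by rwa [Set.pair_comm])) hψ' hq'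
  refine ⟨⟨1, ?_⟩, ⟨1, ?_⟩, ⟨1, ?_⟩⟩
  · rw [one_smul]
    apply Matrix.toLin'.injective
    rw [Matrix.toLin'_mul, Matrix.toLin'_mul, (hiff A).1 hA, (hiff' A').1 hA']
    refine LinearMap.ext fun x => ?_
    simp only [LinearMap.comp_apply, Form.refl_apply, map_sub, map_smul, smul_eq_mul, z, z', mul_zero, sub_zero]
    module
  · rw [← Matrix.toLin'_apply, (hiff A).1 hA, Form.refl_apply, z]; simp
  · rw [← Matrix.toLin'_apply, (hiff' A').1 hA', Form.refl_apply, z']; simp

theorem dihedral {e e' e'' : Fin 4 → K} (he : e ≠ 0) (he' : e' ∉ Submodule.span K {e})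
    (he''1 : e'' ∉ Submodule.span K {e}) (he''2 : e'' ∉ Submodule.span K {e'})
    (he''L : e'' ∈ Submodule.span K {e, e'})
    (hE : PolyEckardt f e) (hE' : PolyEckardt f e') (hE'' : PolyEckardt f e'')
    (hL : ¬ ∀ u ∈ Submodule.span K {e, e'}, eval u f = 0)
    {A A' A'' : Matrix (Fin 4) (Fin 4) K} (hA : PolyInvolution f e A) (hA' : PolyInvolution f e' A')
    (hA'' : PolyInvolution f e'' A'') :
    (¬ ∃ c : K, A * A' = c • (1 : Matrix (Fin 4) (Fin 4) K)) ∧
      (∃ c : K, (A * A') ^ 3 = c • (1 : Matrix (Fin 4) (Fin 4) K)) ∧ ∃ c : K, A'' = c • (A * A' * A) := by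
  have hT := smooth_ofPoly hf hsm
  have he'0 : e' ≠ 0 := fun hh => he' (hh ▸ Submodule.zero_mem _)
  have hne : e ∉ Submodule.span K {e'} := fun hh => by
    obtain ⟨a, ha⟩ := Submodule.mem_span_singleton.1 hh
    have : a ≠ 0 := fun h0 => he (by rw [← ha, h0, zero_smul])
    exact he' (Submodule.mem_span_singleton.2 ⟨a⁻¹, by rw [← ha, smul_smul, inv_mul_cancel₀ this, one_smul]⟩)
  have hli : LinearIndependent K ![e, e'] := (LinearIndependent.pair_iff' he).2 fun a ha =>
    he' (ha ▸ Submodule.smul_mem _ a (Submodule.mem_span_singleton_self e))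
  obtain ⟨ψ, hψ, ha0, hq, hiff, -, -, -, -, hz⟩ := third_eckardt hf hsm he he' hE hE' hL
  obtain ⟨ψ', hψ', hb0, hq', hiff', -, -, -, -, hz'⟩ :=
    third_eckardt hf hsm he'0 hne hE' hE (by rwa [Set.pair_comm])
  have h0'' := (ofPoly_self_eq_zero hf e'').1
    (((polyEckardt_iff hf e'').1 hE'').self_eq_zero (Module.finrank_fin_fun K) hT)
  obtain ⟨c₁, hc₁⟩ := Submodule.mem_span_singleton.1
    (((hz e'' he''L h0'').resolve_left he''1).resolve_left he''2)
  obtain ⟨c₂, hc₂⟩ := Submodule.mem_span_singleton.1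
    (((hz' e'' (by rwa [Set.pair_comm]) h0'').resolve_left he''2).resolve_left he''1)
  have he''0 : e'' ≠ 0 := fun hh => he''1 (hh ▸ Submodule.zero_mem _)
  have hc₁0 : c₁ ≠ 0 := fun hh => he''0 (by rw [← hc₁, hh, zero_smul])
  -- the product of the two parameters
  have hab : 4 * ψ e' * ψ' e = 1 := by
    have := hc₁.trans hc₂.symm
    rw [Form.refl_apply, Form.refl_apply] at this
    obtain ⟨e1, e2⟩ := LinearIndependent.pair_iff.1 hli (-(c₁ * (2 * ψ e')) - c₂) (c₁ + c₂ * (2 * ψ' e))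
      (by linear_combination (norm := module) this)
    have : c₁ * (1 - 4 * ψ e' * ψ' e) = 0 := by linear_combination e2 + 2 * ψ' e * e1
    have := (mul_eq_zero.1 this).resolve_left hc₁0
    linear_combination -this
  have hA1 := (hiff A).1 hA
  have hA2 := (hiff' A').1 hA'
  set R := Form.refl ψ e
  set R' := Form.refl ψ' e'
  have hRR : ∀ x, R (R x) = x := Form.refl_refl hψ
  refine ⟨?_, ⟨1, ?_⟩, ⟨1, ?_⟩⟩
  · rintro ⟨c, hc⟩
    have h1 : R (R' e) = c • e := by
      have := LinearMap.congr_fun (congrArg Matrix.toLin' hc) e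
      simpa [Matrix.toLin'_mul, hA1, hA2] using this
    simp only [R, R', Form.refl_apply, map_sub, map_smul, hψ] at h1
    have := (LinearIndependent.pair_iff.1 hli (-1 + 4 * ψ e' * ψ' e - c) (-(2 * ψ' e))
      (by linear_combination (norm := module) h1)).2
    simp [hb0] at this
  · rw [one_smul]
    apply Matrix.toLin'.injective
    rw [pow_succ, pow_two, Matrix.toLin'_mul, Matrix.toLin'_mul, Matrix.toLin'_mul, hA1, hA2, Matrix.toLin'_one]
    have p1 : R (R' e) = -(2 * ψ' e) • e' := by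
      simp only [R, R', Form.refl_apply, map_sub, map_smul, hψ]
      match_scalars
      all_goals first | ring1 | linear_combination hab | linear_combination -hab
    have p2 : R (R' e') = (2 * ψ e') • e - e' := by
      simp only [R, R', Form.refl_self hψ', map_neg, Form.refl_apply, neg_sub]
    refine LinearMap.ext fun x => ?_
    obtain ⟨al, be, hx⟩ : ∃ al be : K, R (R' x) = x + al • e + be • e' := by
      refine ⟨-(2 * ψ x) + 4 * ψ' x * ψ e', -(2 * ψ' x), ?_⟩
      simp only [R, R', Form.refl_apply, map_sub, map_smul, smul_eq_mul]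
      module
    simp only [LinearMap.comp_apply, LinearMap.id_apply, hx, map_add, map_smul, p1, p2, map_sub]
    match_scalars
    · ring
    · linear_combination (-al) * hab
    · linear_combination (-be) * hab
  · rw [one_smul]
    apply Matrix.toLin'.injective
    obtain ⟨χ, hχ, hqχ, hiff''⟩ := exists_psi_unique hf hsm he''0 hE''
    have hA3 := (hiff'' A'').1 hA''
    rw [Matrix.toLin'_mul, Matrix.toLin'_mul, hA1, hA2, hA3]
    have hRe' : R e' = c₁⁻¹ • e'' := by rw [← hc₁, smul_smul, inv_mul_cancel₀ hc₁0, one_smul]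
    set χ' : (Fin 4 → K) →ₗ[K] K := c₁⁻¹ • (ψ' ∘ₗ R)
    have hconj : ∀ x, R (R' (R x)) = Form.refl χ' e'' x := fun x => by
      rw [show R' (R x) = R x - (2 * ψ' (R x)) • e' from Form.refl_apply _ _ _, map_sub, hRR, map_smul, hRe',
        Form.refl_apply χ' e'' x, smul_smul, show χ' x = c₁⁻¹ * ψ' (R x) from rfl]
      module
    have hχ' : χ' e'' = 1 := by
      rw [← hc₁, map_smul]
      simp only [χ', LinearMap.smul_apply, LinearMap.comp_apply, hRR, hψ', smul_eq_mul]
      field_simp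
    have h0e := ((polyEckardt_iff hf e).1 hE).self_eq_zero (Module.finrank_fin_fun K) hT
    have h0e' := ((polyEckardt_iff hf e').1 hE').self_eq_zero (Module.finrank_fin_fun K) hT
    have hqχ' := Form.psi_of_preserves (T := ofPoly f) (Module.finrank_fin_fun K) hT he''0
      ((ofPoly_self_eq_zero hf e'').2 h0'') hχ' (c := 1) fun x => by
        rw [← hconj, Form.tri_refl h0e hq, Form.tri_refl h0e' hq', Form.tri_refl h0e hq, one_mul]
    rw [Form.psi_unique hT he''0 ((ofPoly_self_eq_zero hf e'').2 h0'') hχ hχ' hqχ hqχ']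
    exact LinearMap.ext fun x => (hconj x).symm

end Groth.CubicGeom
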