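import Groth.Agent.CubicGeom.Plane
import Groth.Prelude.Def_W4c5monodromycubicsHesse

/-!
The Hesse pencil: flexes, symmetries, and transport from an arbitrary smooth plane cubic.
-/

set_option autoImplicit false

namespace Groth.CubicGeom

open MvPolynomial Finset

variable {K : Type*} [Field K] [CharZero K]

/-- The condition on lines used in the statements. -/
def PolyFlex {n : ℕ} (f : MvPolynomial (Fin n) K) (v : Fin n → K) : Prop :=
  ∃ w : Fin n → K, LinearIndependent K ![v, w] ∧ ∀ t : K, eval (v + t • w) f = t ^ 3 * eval w f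

theorem polyFlex_iff {n : ℕ} {f : MvPolynomial (Fin n) K} (hf : f.IsHomogeneous 3) (v : Fin n → K) :
    PolyFlex f v ↔ (ofPoly f).IsFlex v := by
  refine exists_congr fun w => and_congr_right fun _ => ?_
  constructor
  · intro h
    have e : ∀ t : K, (ofPoly f).tri (v + t • w) (v + t • w) (v + t • w) = t ^ 3 * (ofPoly f).tri w w w :=
      fun t => by rw [ofPoly_self hf, ofPoly_self hf, h t]; ring
    simp only [Form.expand] at e
    have h0 : (ofPoly f).tri v v v = 0 := by simpa using e 0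
    have h1 := e 1; have h2 := e (-1)
    refine ⟨h0, ?_, ?_⟩
    · linear_combination (1 / 6 : K) * h1 - (1 / 6 : K) * h2
    · linear_combination (1 / 6 : K) * h1 + (1 / 6 : K) * h2 - (1 / 3 : K) * h0
  · rintro ⟨h0, h1, h2⟩ t
    have := (ofPoly f).expand v w t
    rw [h0, h1, h2, ofPoly_self hf, ofPoly_self hf] at this
    linear_combination (1 / 6 : K) * this

theorem PolyFlex.eval_eq_zero {n : ℕ} {f : MvPolynomial (Fin n) K} {v : Fin n → K}
    (h : PolyFlex f v) : eval v f = 0 := by
  obtain ⟨w, _, h⟩ := h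
  simpa using h 0

theorem PolyFlex.ne_zero {n : ℕ} {f : MvPolynomial (Fin n) K} {v : Fin n → K}
    (h : PolyFlex f v) : v ≠ 0 := by
  obtain ⟨w, hw, _⟩ := h
  simpa using hw.ne_zero (0 : Fin 2)

theorem isHomogeneous_form (k : K) : (HesseCubic.form k).IsHomogeneous 3 := by
  refine IsHomogeneous.sub ((((isHomogeneous_X _ _).pow 3).add ((isHomogeneous_X _ _).pow 3)).add
    ((isHomogeneous_X _ _).pow 3)) ?_
  simpa using (isHomogeneous_C (Fin 3) (3 * k)).mul
    (((isHomogeneous_X K (0 : Fin 3)).mul (isHomogeneous_X K 1)).mul (isHomogeneous_X K 2))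

theorem eval_form (k : K) (v : Fin 3 → K) :
    eval v (HesseCubic.form k) = v 0 ^ 3 + v 1 ^ 3 + v 2 ^ 3 - 3 * k * (v 0 * v 1 * v 2) := by
  simp [HesseCubic.form]

theorem eval_pderiv_form (k : K) (v : Fin 3 → K) :
    eval v (pderiv 0 (HesseCubic.form k)) = 3 * (v 0 ^ 2 - k * (v 1 * v 2)) ∧
    eval v (pderiv 1 (HesseCubic.form k)) = 3 * (v 1 ^ 2 - k * (v 0 * v 2)) ∧
    eval v (pderiv 2 (HesseCubic.form k)) = 3 * (v 2 ^ 2 - k * (v 0 * v 1)) := by
  refine ⟨?_, ?_, ?_⟩ <;>
  · simp [HesseCubic.form, pderiv_pow, Pi.single_apply, Derivation.leibniz]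
    ring

theorem tri_form (k : K) (v n u : Fin 3 → K) :
    (ofPoly (HesseCubic.form k)).tri v n u =
      3 * ((2 * v 0 * n 0 - k * v 2 * n 1 - k * v 1 * n 2) * u 0
        + (-k * v 2 * n 0 + 2 * v 1 * n 1 - k * v 0 * n 2) * u 1
        + (-k * v 1 * n 0 - k * v 0 * n 1 + 2 * v 2 * n 2) * u 2) := by
  set T := ofPoly (HesseCubic.form k) with hT
  have hd : ∀ a, T.tri a a u =
      6 * ((a 0 ^ 2 - k * (a 1 * a 2)) * u 0 + (a 1 ^ 2 - k * (a 0 * a 2)) * u 1
        + (a 2 ^ 2 - k * (a 0 * a 1)) * u 2) := fun a => by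
    obtain ⟨d0, d1, d2⟩ := eval_pderiv_form k a
    rw [hT, ofPoly_self_self (isHomogeneous_form k), Fin.sum_univ_three, d0, d1, d2]; ring
  have h := T.polar_expand v n u 1 1
  simp only [one_smul] at h
  rw [hd, hd v, hd n] at h
  simp only [Pi.add_apply] at h
  linear_combination (-1 / 2 : K) * h

variable [IsAlgClosed K]

theorem smooth_form {k : K} (hk : k ^ 3 ≠ 1) : (ofPoly (HesseCubic.form k)).Smooth := by
  refine smooth_ofPoly (isHomogeneous_form k) fun v hv _ => ?_
  by_contra h
  push Not at h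
  obtain ⟨d0, d1, d2⟩ := eval_pderiv_form k v
  rw [h] at d0 d1 d2
  obtain ⟨a, b, c⟩ := hesse_smooth_aux hk (a := v 0) (b := v 1) (c := v 2)
    (by linear_combination (-1 / 3 : K) * d0) (by linear_combination (-1 / 3 : K) * d1)
    (by linear_combination (-1 / 3 : K) * d2)
  exact hv (funext fun i => by fin_cases i <;> assumption)

/-- The nine base points of the Hesse pencil. -/
def IsBasePt (v : Fin 3 → K) : Prop :=
  ∃ γ c : K, γ ^ 3 = 1 ∧ (v = c • ![0, 1, -γ] ∨ v = c • ![-γ, 0, 1] ∨ v = c • ![1, -γ, 0])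

theorem polyFlex_form_iff {k : K} (hk : k ^ 3 ≠ 1) {v : Fin 3 → K} :
    PolyFlex (HesseCubic.form k) v ↔ v ≠ 0 ∧ IsBasePt v := by
  constructor
  · intro h
    have hv := h.ne_zero
    refine ⟨hv, ?_⟩
    have h0 := h.eval_eq_zero
    rw [eval_form, sub_eq_zero] at h0
    obtain ⟨n, hn, hker⟩ := (smooth_form hk).exists_kernel_of_isFlex (by simp)
      ((polyFlex_iff (isHomogeneous_form k) v).1 h)
    have r0 := hker ![1, 0, 0]
    have r1 := hker ![0, 1, 0]
    have r2 := hker ![0, 0, 1]
    simp [tri_form] at r0 r1 r2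
    have hd : (!![2 * v 0, -k * v 2, -k * v 1; -k * v 2, 2 * v 1, -k * v 0;
        -k * v 1, -k * v 0, 2 * v 2]).det = 0 := by
      refine Matrix.exists_mulVec_eq_zero_iff.1 ⟨n, hn, ?_⟩
      ext i
      fin_cases i <;> simp [Matrix.mulVec, dotProduct, Fin.sum_univ_three]
      · linear_combination r0
      · linear_combination r1
      · linear_combination r2
    rcases hesse_det hk h0 hd with e | e | e
    · simp [e] at h0
      have hb : v 1 ≠ 0 := fun hb => hv (funext fun i => by
        fin_cases i <;> simp_all)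
      refine ⟨-(v 2 / v 1), v 1, ?_, Or.inl ?_⟩
      · field_simp; linear_combination -h0
      · ext i; fin_cases i <;> simp [e]; field_simp
    · simp [e] at h0
      have hb : v 2 ≠ 0 := fun hb => hv (funext fun i => by
        fin_cases i <;> simp_all)
      refine ⟨-(v 0 / v 2), v 2, ?_, Or.inr (Or.inl ?_)⟩
      · field_simp; linear_combination -h0
      · ext i; fin_cases i <;> simp [e]; field_simp
    · simp [e] at h0
      have hb : v 0 ≠ 0 := fun hb => hv (funext fun i => by
        fin_cases i <;> simp_all)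
      refine ⟨-(v 1 / v 0), v 0, ?_, Or.inr (Or.inr ?_)⟩
      · field_simp; linear_combination -h0
      · ext i; fin_cases i <;> simp [e]; field_simp
  · rintro ⟨hv, γ, c, hg, hcase⟩
    rw [polyFlex_iff (isHomogeneous_form k)]
    have key : ∀ n : Fin 3 → K, n ≠ 0 → eval v (HesseCubic.form k) = 0 →
        (∀ u, (ofPoly (HesseCubic.form k)).tri v n u = 0) → (ofPoly (HesseCubic.form k)).IsFlex v :=
      fun n hn h0 h => (smooth_form hk).isFlex_of_kernel hv
        ((ofPoly_self_eq_zero (isHomogeneous_form k) v).2 h0) hn h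
    rcases hcase with rfl | rfl | rfl
    · refine key ![2, -k * γ, -k * γ ^ 2] (fun h => by simpa using congrFun h 0) ?_ fun u => ?_
      · rw [eval_form]; simp; linear_combination (-c ^ 3) * hg
      · simp [tri_form]; linear_combination (2 * c * k * u 2) * hg
    · refine key ![-k * γ ^ 2, 2, -k * γ] (fun h => by simpa using congrFun h 1) ?_ fun u => ?_
      · rw [eval_form]; simp; linear_combination (-c ^ 3) * hg
      · simp [tri_form]; linear_combination (2 * c * k * u 0) * hg
    · refine key ![-k * γ, -k * γ ^ 2, 2] (fun h => by simpa using congrFun h 2) ?_ fun u => ?_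
      · rw [eval_form]; simp; linear_combination (-c ^ 3) * hg
      · simp [tri_form]; linear_combination (2 * c * k * u 1) * hg

section Transport

variable {f g : MvPolynomial (Fin 3) K} {A : Matrix (Fin 3) (Fin 3) K} {c : K}

theorem PolyFlex.map (hA : IsUnit A.det) (hc : c ≠ 0)
    (h : ∀ x, eval (A.mulVec x) f = c * eval x g) {v : Fin 3 → K} :
    PolyFlex g v ↔ PolyFlex f (A.mulVec v) := by
  have hu : IsUnit A := (Matrix.isUnit_iff_isUnit_det A).2 hA
  have hinj : Function.Injective A.mulVecLin := Matrix.mulVec_injective_iff_isUnit.2 hu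
  have hsurj : Function.Surjective A.mulVec := Matrix.mulVec_surjective_iff_isUnit.2 hu
  have hli : ∀ w, LinearIndependent K ![A.mulVec v, A.mulVec w] ↔ LinearIndependent K ![v, w] := fun w => by
    rw [show ![A.mulVec v, A.mulVec w] = A.mulVecLin ∘ ![v, w] by
      ext i : 1; fin_cases i <;> simp]
    exact A.mulVecLin.linearIndependent_iff (LinearMap.ker_eq_bot.2 hinj)
  constructor
  · rintro ⟨w, hw, e⟩
    refine ⟨A.mulVec w, (hli w).2 hw, fun t => ?_⟩
    rw [← Matrix.mulVec_smul, ← Matrix.mulVec_add, h, h, e]; ring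
  · rintro ⟨w', hw, e⟩
    obtain ⟨w, rfl⟩ := hsurj w'
    refine ⟨w, (hli w).1 hw, fun t => mul_left_cancel₀ hc ?_⟩
    rw [← h, Matrix.mulVec_add, Matrix.mulVec_smul, e, h]; ring

theorem exists_hesse_form (hf : f.IsHomogeneous 3)
    (hsm : ∀ v : Fin 3 → K, v ≠ 0 → eval v f = 0 → ∃ i : Fin 3, eval v (pderiv i f) ≠ 0) :
    ∃ (A : Matrix (Fin 3) (Fin 3) K) (k c : K), IsUnit A.det ∧ k ^ 3 ≠ 1 ∧ c ≠ 0 ∧
      subst A f = C c * HesseCubic.form k := by
  obtain ⟨L, k, c, hL, hk, hc, h⟩ := exists_hesse (smooth_ofPoly hf hsm)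
  refine ⟨LinearMap.toMatrix' L, k, c / 6, ?_, hk, by simp [hc], ?_⟩
  · rw [← Matrix.isUnit_iff_isUnit_det, ← Matrix.mulVec_injective_iff_isUnit]
    rw [show (LinearMap.toMatrix' L).mulVec = L from funext fun x => LinearMap.toMatrix'_mulVec L x]
    exact hL
  · rw [subst_eq_iff]
    intro x
    rw [LinearMap.toMatrix'_mulVec, eval_form]
    have := h x
    rw [ofPoly_self hf] at this
    linear_combination (1 / 6 : K) * this

end Transport

end Groth.CubicGeom
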