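import Groth.Agent.CubicGeom.Hesse

/-!
Symmetries of the Hesse pencil.
-/

set_option autoImplicit false

namespace Groth.CubicGeom

open MvPolynomial Finset

variable {K : Type*} [Field K] [CharZero K] [IsAlgClosed K]

theorem exists_omega : ∃ w : K, w ^ 2 + w + 1 = 0 ∧ w ≠ 1 ∧ w ^ 3 = 1 := by
  obtain ⟨w, hw⟩ := IsAlgClosed.exists_root
    (Polynomial.C 1 * Polynomial.X ^ 2 + Polynomial.C 1 * Polynomial.X + Polynomial.C 1 : Polynomial K)
    (by rw [Polynomial.degree_quadratic one_ne_zero]; decide)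
  simp only [Polynomial.IsRoot, Polynomial.eval_add, Polynomial.eval_mul, Polynomial.eval_pow,
      Polynomial.eval_C, Polynomial.eval_X, one_mul] at hw
  exact ⟨w, hw, by rintro rfl; norm_num at hw, by linear_combination (w - 1) * hw⟩

theorem cuberoot_aux {p q r : K} (h : ∀ γ : K, γ ^ 3 = 1 → p + γ * q + γ ^ 2 * r = 0) :
    p = 0 ∧ q = 0 ∧ r = 0 := by
  obtain ⟨w, hw, -, hw3⟩ := exists_omega (K := K)
  have h1 := h 1 (one_pow 3)
  have h2 := h w hw3
  have h3 := h (w ^ 2) (by rw [← pow_mul, mul_comm 2 3, pow_mul, hw3, one_pow])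
  refine ⟨?_, ?_, ?_⟩
  · linear_combination (1 / 3 : K) * (h1 + h2 + h3) - (1 / 3 : K) * (q + r * (w ^ 2 - w + 1)) * hw
  · linear_combination (1 / 3 : K) * (h1 + w ^ 2 * h2 + w * h3) - (1 / 3 : K) * p * hw
      - (2 / 3 : K) * q * hw3 - (1 / 3 : K) * r * (w ^ 4 + w ^ 5) * 0
      - (1 / 3 : K) * r * (w + 1) * w * hw3 - (1 / 3 : K) * r * hw
  · linear_combination (1 / 3 : K) * (h1 + w * h2 + w ^ 2 * h3) - (1 / 3 : K) * p * hw
      - (1 / 3 : K) * q * (w * hw3) - (1 / 3 : K) * q * hw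
      - (1 / 3 : K) * r * (w ^ 3 + 2) * hw3

/-- A matrix fixing each of the nine base points is scalar. -/
theorem scalar_of_fix_basePts (M : Matrix (Fin 3) (Fin 3) K)
    (h : ∀ v : Fin 3 → K, v ≠ 0 → IsBasePt v → ∃ d : K, M.mulVec v = d • v) :
    ∃ c : K, M = c • 1 := by
  have ha : ∀ γ : K, γ ^ 3 = 1 → ∃ d, M.mulVec ![0, 1, -γ] = d • ![0, 1, -γ] := fun γ hg =>
    h _ (fun e => by simpa using congrFun e 1) ⟨γ, 1, hg, Or.inl (one_smul _ _).symm⟩
  have hb : ∀ γ : K, γ ^ 3 = 1 → ∃ d, M.mulVec ![-γ, 0, 1] = d • ![-γ, 0, 1] := fun γ hg =>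
    h _ (fun e => by simpa using congrFun e 2) ⟨γ, 1, hg, Or.inr (Or.inl (one_smul _ _).symm)⟩
  have hc : ∀ γ : K, γ ^ 3 = 1 → ∃ d, M.mulVec ![1, -γ, 0] = d • ![1, -γ, 0] := fun γ hg =>
    h _ (fun e => by simpa using congrFun e 0) ⟨γ, 1, hg, Or.inr (Or.inr (one_smul _ _).symm)⟩
  have A := cuberoot_aux (K := K) (p := M 0 1) (q := -M 0 2) (r := 0) fun γ hg => by
    obtain ⟨d, hd⟩ := ha γ hg
    have := congrFun hd 0
    simp [Matrix.mulVec, dotProduct, Fin.sum_univ_three] at this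
    linear_combination this
  have A' := cuberoot_aux (K := K) (p := M 2 1) (q := M 1 1 - M 2 2) (r := -M 1 2) fun γ hg => by
    obtain ⟨d, hd⟩ := ha γ hg
    have e1 := congrFun hd 1; have e2 := congrFun hd 2
    simp [Matrix.mulVec, dotProduct, Fin.sum_univ_three] at e1 e2
    linear_combination e2 + γ * e1
  have B := cuberoot_aux (K := K) (p := M 1 2) (q := -M 1 0) (r := 0) fun γ hg => by
    obtain ⟨d, hd⟩ := hb γ hg
    have := congrFun hd 1
    simp [Matrix.mulVec, dotProduct, Fin.sum_univ_three] at this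
    linear_combination this
  have B' := cuberoot_aux (K := K) (p := M 0 2) (q := M 2 2 - M 0 0) (r := -M 2 0) fun γ hg => by
    obtain ⟨d, hd⟩ := hb γ hg
    have e1 := congrFun hd 2; have e2 := congrFun hd 0
    simp [Matrix.mulVec, dotProduct, Fin.sum_univ_three] at e1 e2
    linear_combination e2 + γ * e1
  have C := cuberoot_aux (K := K) (p := M 2 0) (q := -M 2 1) (r := 0) fun γ hg => by
    obtain ⟨d, hd⟩ := hc γ hg
    have := congrFun hd 2
    simp [Matrix.mulVec, dotProduct, Fin.sum_univ_three] at this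
    linear_combination this
  have C' := cuberoot_aux (K := K) (p := M 1 0) (q := M 0 0 - M 1 1) (r := -M 0 1) fun γ hg => by
    obtain ⟨d, hd⟩ := hc γ hg
    have e1 := congrFun hd 0; have e2 := congrFun hd 1
    simp [Matrix.mulVec, dotProduct, Fin.sum_univ_three] at e1 e2
    linear_combination e2 + γ * e1
  simp only [neg_eq_zero, sub_eq_zero] at A A' B B' C C'
  refine ⟨M 0 0, ?_⟩
  ext i j
  fin_cases i <;> fin_cases j <;>
    simp [A.1, A.2.1, B.1, B.2.1, C.1, C.2.1, A'.1, A'.2.2, B'.1, B'.2.2, C'.1, C'.2.2, B'.2.1, C'.2.1]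

/-- A symmetry of the whole pencil taking `(0, 1, -1)` to the given base point. -/
theorem exists_move_basePt {v : Fin 3 → K} (hv : v ≠ 0) (h : IsBasePt v) :
    ∃ (G : Matrix (Fin 3) (Fin 3) K) (d : K), IsUnit G.det ∧ d ≠ 0 ∧
      G.mulVec ![0, 1, -1] = d • v ∧
      ∀ (k : K) (x : Fin 3 → K), eval (G.mulVec x) (HesseCubic.form k) = eval x (HesseCubic.form k) := by
  obtain ⟨γ, c, hg, hcase⟩ := h
  have hc : c ≠ 0 := by rintro rfl; rcases hcase with rfl | rfl | rfl <;> simp at hv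
  have hγ : γ ≠ 0 := by rintro rfl; simp at hg
  rcases hcase with rfl | rfl | rfl
  · refine ⟨!![1, 0, 0; 0, γ, 0; 0, 0, γ ^ 2], γ / c, ?_, by simp [hγ, hc], ?_, fun k x => ?_⟩
    · simp [Matrix.det_fin_three, hγ]
    · ext i; fin_cases i <;> simp [Matrix.mulVec, dotProduct, Fin.sum_univ_three] <;> field_simp
    · simp [eval_form, Matrix.mulVec, dotProduct, Fin.sum_univ_three]
      linear_combination (x 1 ^ 3 + (γ ^ 3 + 1) * x 2 ^ 3 - 3 * k * (x 0 * x 1 * x 2)) * hg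
  · refine ⟨!![0, 0, γ ^ 2; 1, 0, 0; 0, γ, 0], γ / c, ?_, by simp [hγ, hc], ?_, fun k x => ?_⟩
    · simp [Matrix.det_fin_three, hγ]
    · ext i; fin_cases i <;> simp [Matrix.mulVec, dotProduct, Fin.sum_univ_three] <;> field_simp
    · simp [eval_form, Matrix.mulVec, dotProduct, Fin.sum_univ_three]
      linear_combination (x 1 ^ 3 + (γ ^ 3 + 1) * x 2 ^ 3 - 3 * k * (x 0 * x 1 * x 2)) * hg
  · refine ⟨!![0, γ, 0; 0, 0, γ ^ 2; 1, 0, 0], γ / c, ?_, by simp [hγ, hc], ?_, fun k x => ?_⟩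
    · simp [Matrix.det_fin_three, hγ]
    · ext i; fin_cases i <;> simp [Matrix.mulVec, dotProduct, Fin.sum_univ_three] <;> field_simp
    · simp [eval_form, Matrix.mulVec, dotProduct, Fin.sum_univ_three]
      linear_combination (x 1 ^ 3 + (γ ^ 3 + 1) * x 2 ^ 3 - 3 * k * (x 0 * x 1 * x 2)) * hg

variable {f : MvPolynomial (Fin 3) K}

theorem eq_smul_one_of_fixing_flexes (hf : f.IsHomogeneous 3)
    (hsm : ∀ v : Fin 3 → K, v ≠ 0 → eval v f = 0 → ∃ i : Fin 3, eval v (pderiv i f) ≠ 0)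
    (A : Matrix (Fin 3) (Fin 3) K)
    (hfix : ∀ v : Fin 3 → K, v ≠ 0 → eval v f = 0 → PolyFlex f v → ∃ d : K, A.mulVec v = d • v) :
    ∃ c : K, A = c • 1 := by
  obtain ⟨B, k, c, hB, hk, hc, h⟩ := exists_hesse_form hf hsm
  rw [subst_eq_iff] at h
  obtain ⟨e, he⟩ := scalar_of_fix_basePts (B⁻¹ * A * B) fun v hv hbp => by
    have hfl := (PolyFlex.map hB hc h).1 ((polyFlex_form_iff hk).2 ⟨hv, hbp⟩)
    obtain ⟨d, hd⟩ := hfix _ hfl.ne_zero hfl.eval_eq_zero hfl
    refine ⟨d, ?_⟩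
    rw [← Matrix.mulVec_mulVec, ← Matrix.mulVec_mulVec, hd, Matrix.mulVec_smul, Matrix.mulVec_mulVec,
      Matrix.nonsing_inv_mul B hB, Matrix.one_mulVec]
  refine ⟨e, ?_⟩
  calc A = B * (B⁻¹ * A * B) * B⁻¹ := by
        simp [Matrix.mul_assoc, Matrix.mul_nonsing_inv B hB, Matrix.mul_nonsing_inv_cancel_left _ _ hB]
    _ = e • 1 := by simp [he, Matrix.mul_nonsing_inv B hB]

theorem exists_aut_flex (hf : f.IsHomogeneous 3)
    (hsm : ∀ v : Fin 3 → K, v ≠ 0 → eval v f = 0 → ∃ i : Fin 3, eval v (pderiv i f) ≠ 0)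
    {v v' : Fin 3 → K} (hv : PolyFlex f v) (hv' : PolyFlex f v') :
    ∃ (A : Matrix (Fin 3) (Fin 3) K) (c d : K), IsUnit A.det ∧
      subst A f = C c * f ∧ A.mulVec v = d • v' := by
  obtain ⟨B, k, c, hB, hk, hc, h⟩ := exists_hesse_form hf hsm
  rw [subst_eq_iff] at h
  have hpre : ∀ u, PolyFlex f u → ∃ G d, IsUnit (Matrix.det G) ∧ d ≠ (0 : K) ∧
      (B * G).mulVec ![0, 1, -1] = d • u ∧
      ∀ x, eval ((B * G).mulVec x) f = c * eval x (HesseCubic.form k) := by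
    intro u hu
    rw [← Matrix.one_mulVec u, ← Matrix.mul_nonsing_inv B hB, ← Matrix.mulVec_mulVec,
      ← PolyFlex.map hB hc h] at hu
    obtain ⟨G, d, hG, hd, hGv, hGk⟩ := exists_move_basePt hu.ne_zero ((polyFlex_form_iff hk).1 hu).2
    refine ⟨G, d, hG, hd, ?_, fun x => ?_⟩
    · rw [← Matrix.mulVec_mulVec, hGv, Matrix.mulVec_smul, Matrix.mulVec_mulVec,
        Matrix.mul_nonsing_inv B hB, Matrix.one_mulVec]
    · rw [← Matrix.mulVec_mulVec, h, hGk]
  obtain ⟨G, d, hG, hd, e1, e2⟩ := hpre v hv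
  obtain ⟨G', d', hG', hd', e1', e2'⟩ := hpre v' hv'
  have hBG : IsUnit (B * G).det := by rw [Matrix.det_mul]; exact hB.mul hG
  refine ⟨B * G' * (B * G)⁻¹, 1, d' / d, ?_, ?_, ?_⟩
  · rw [Matrix.det_mul, Matrix.det_mul]
    exact (hB.mul hG').mul (Matrix.isUnit_nonsing_inv_det _ hBG)
  · rw [subst_eq_iff]
    intro x
    rw [← Matrix.mulVec_mulVec, e2', ← e2, Matrix.mulVec_mulVec, Matrix.mul_nonsing_inv _ hBG,
      Matrix.one_mulVec, one_mul]
  · have : v = d⁻¹ • (B * G).mulVec ![0, 1, -1] := by rw [e1, smul_smul, inv_mul_cancel₀ hd, one_smul]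
    rw [this, Matrix.mulVec_smul, ← Matrix.mulVec_mulVec _ _ (B * G)⁻¹, Matrix.mulVec_mulVec _ (B * G)⁻¹,
      Matrix.nonsing_inv_mul _ hBG, Matrix.one_mulVec, e1', smul_smul]
    ring_nf

section Count

/-- Matrices mapping every base point to a base point, of determinant one, form a finite set. -/
theorem finite_permuting_basePts :
    Set.Finite {A : Matrix (Fin 3) (Fin 3) K | A.det = 1 ∧
      ∀ v : Fin 3 → K, v ≠ 0 → IsBasePt v → IsBasePt (A.mulVec v)} := by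
  classical
  obtain ⟨w, hw, hw1, hw3⟩ := exists_omega (K := K)
  have hcube : {γ : K | γ ^ 3 = 1}.Finite := by
    refine (Polynomial.finite_setOf_isRoot (p := (Polynomial.X ^ 3 - Polynomial.C 1 : Polynomial K))
      (Polynomial.X_pow_sub_C_ne_zero three_pos 1)).subset fun γ hg => ?_
    simp only [Set.mem_setOf_eq] at hg ⊢
    simp [Polynomial.IsRoot, hg]
  set N : Set (Fin 3 → K) :=
    (fun γ : K => ![0, 1, -γ]) '' {γ | γ ^ 3 = 1} ∪ (fun γ : K => ![-γ, 0, 1]) '' {γ | γ ^ 3 = 1}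
      ∪ (fun γ : K => ![1, -γ, 0]) '' {γ | γ ^ 3 = 1} with hN
  have hNfin : N.Finite := ((hcube.image _).union (hcube.image _)).union (hcube.image _)
  have hbp : ∀ v : Fin 3 → K, IsBasePt v → ∃ u ∈ N, ∃ c : K, v = c • u := by
    rintro v ⟨γ, c, hg, rfl | rfl | rfl⟩
    · exact ⟨_, Or.inl (Or.inl ⟨γ, hg, rfl⟩), c, rfl⟩
    · exact ⟨_, Or.inl (Or.inr ⟨γ, hg, rfl⟩), c, rfl⟩
    · exact ⟨_, Or.inr ⟨γ, hg, rfl⟩, c, rfl⟩
  have hNbp : ∀ u ∈ N, u ≠ 0 ∧ IsBasePt u := by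
    rintro u ((⟨γ, hg, rfl⟩ | ⟨γ, hg, rfl⟩) | ⟨γ, hg, rfl⟩)
    · exact ⟨fun e => by simpa using congrFun e 1, γ, 1, hg, Or.inl (one_smul _ _).symm⟩
    · exact ⟨fun e => by simpa using congrFun e 2, γ, 1, hg, Or.inr (Or.inl (one_smul _ _).symm)⟩
    · exact ⟨fun e => by simpa using congrFun e 0, γ, 1, hg, Or.inr (Or.inr (one_smul _ _).symm)⟩
  haveI := hNfin.to_subtype
  set S := {A : Matrix (Fin 3) (Fin 3) K | A.det = 1 ∧
      ∀ v : Fin 3 → K, v ≠ 0 → IsBasePt v → IsBasePt (A.mulVec v)}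
  have key : ∀ A ∈ S, ∀ u : N, ∃ u' : N, ∃ c : K, A.mulVec u.1 = c • u'.1 := fun A hA u => by
    obtain ⟨u', hu', c, hc⟩ := hbp _ (hA.2 u.1 (hNbp _ u.2).1 (hNbp _ u.2).2)
    exact ⟨⟨u', hu'⟩, c, hc⟩
  refine Set.finite_coe_iff.1 ?_
  choose img coef himg using key
  let F : S → (N → N) := fun A => img A.1 A.2
  refine Set.finite_univ_iff.1 (Set.Finite.of_finite_fibers F (Set.toFinite _) fun φ _ => ?_)
  rw [Set.univ_inter]
  by_cases hne : ∃ A, F A = φ
  · obtain ⟨A₀, rfl⟩ := hne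
    have hdet : IsUnit A₀.1.det := by rw [A₀.2.1]; exact isUnit_one
    refine ((hcube.image fun c : K => c • A₀.1).preimage Subtype.val_injective.injOn).subset ?_
    intro A hA
    simp only [Set.mem_preimage, Set.mem_singleton_iff] at hA
    obtain ⟨e, he⟩ := scalar_of_fix_basePts (A₀.1⁻¹ * A.1) fun v hv hb => by
      obtain ⟨u, hu, c, rfl⟩ := hbp v hb
      have h1 := himg A.1 A.2 ⟨u, hu⟩
      have h2 := himg A₀.1 A₀.2 ⟨u, hu⟩
      have h3 : img A.1 A.2 ⟨u, hu⟩ = img A₀.1 A₀.2 ⟨u, hu⟩ := congrFun hA _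
      rw [h3] at h1
      have hc0 : coef A₀.1 A₀.2 ⟨u, hu⟩ ≠ 0 := by
        intro h0
        rw [h0, zero_smul] at h2
        have := congrArg A₀.1⁻¹.mulVec h2
        rw [Matrix.mulVec_mulVec, Matrix.nonsing_inv_mul _ hdet, Matrix.one_mulVec, Matrix.mulVec_zero] at this
        exact (hNbp _ hu).1 this
      refine ⟨coef A.1 A.2 ⟨u, hu⟩ / coef A₀.1 A₀.2 ⟨u, hu⟩, ?_⟩
      rw [← Matrix.mulVec_mulVec, Matrix.mulVec_smul, h1, smul_smul,
        show (img A₀.1 A₀.2 ⟨u, hu⟩).1 = (coef A₀.1 A₀.2 ⟨u, hu⟩)⁻¹ • A₀.1.mulVec u by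
          rw [h2, smul_smul, inv_mul_cancel₀ hc0, one_smul],
        smul_smul, Matrix.mulVec_smul, Matrix.mulVec_mulVec, Matrix.nonsing_inv_mul _ hdet,
        Matrix.one_mulVec, smul_smul]
      congr 1; field_simp
    have hA' : A.1 = e • A₀.1 := by
      rw [← Matrix.mul_nonsing_inv_cancel_left A₀.1 A.1 hdet, he]; simp
    refine ⟨e, ?_, hA'.symm⟩
    have := A.2.1
    rw [hA', Matrix.det_smul, A₀.2.1] at this
    simpa using this
  · convert Set.finite_empty using 1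
    ext A
    simp only [Set.mem_preimage, Set.mem_singleton_iff, Set.mem_empty_iff_false, iff_false]
    exact fun h => hne ⟨A, h⟩

/-- Matrices fixing the two generators of the pencil up to the same factor. -/
def pencilAut (K : Type*) [Field K] : Set (Matrix (Fin 3) (Fin 3) K) :=
  {A | A.det = 1 ∧ ∃ c : K, ∀ x : Fin 3 → K,
    (A.mulVec x 0) ^ 3 + (A.mulVec x 1) ^ 3 + (A.mulVec x 2) ^ 3 = c * (x 0 ^ 3 + x 1 ^ 3 + x 2 ^ 3) ∧
    A.mulVec x 0 * A.mulVec x 1 * A.mulVec x 2 = c * (x 0 * x 1 * x 2)}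

theorem pencilAut_or_finite (A : Matrix (Fin 3) (Fin 3) K) (hdet : A.det = 1) :
    A ∈ pencilAut K ∨ {k : K | ∃ c, ∀ x, eval (A.mulVec x) (HesseCubic.form k) = c * eval x (HesseCubic.form k)}.Finite := by
  refine or_iff_not_imp_right.2 fun hinf => ⟨hdet, ?_⟩
  obtain ⟨k₁, h1⟩ := Set.Infinite.nonempty hinf
  obtain ⟨k₂, h2, h12⟩ := (Set.Infinite.diff hinf (Set.finite_singleton k₁)).nonempty
  obtain ⟨k₃, h3, h13⟩ := (Set.Infinite.diff hinf (Set.toFinite {k₁, k₂})).nonempty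
  simp only [Set.mem_singleton_iff, Set.mem_insert_iff, not_or] at h12 h13
  obtain ⟨c₁, h1⟩ := h1
  obtain ⟨c₂, h2⟩ := h2
  obtain ⟨c₃, h3⟩ := h3
  simp only [eval_form] at h1 h2 h3
  set σ := fun y : Fin 3 → K => y 0 ^ 3 + y 1 ^ 3 + y 2 ^ 3
  set m := fun y : Fin 3 → K => y 0 * y 1 * y 2
  obtain ⟨p, hp⟩ : ∃ p, p = (c₁ - c₂) / (3 * (k₂ - k₁)) := ⟨_, rfl⟩
  obtain ⟨q, hq⟩ : ∃ q, q = (-3 * k₁ * c₁ + 3 * k₂ * c₂) / (3 * (k₂ - k₁)) := ⟨_, rfl⟩
  have hne : (3 : K) * (k₂ - k₁) ≠ 0 := mul_ne_zero (by norm_num) (sub_ne_zero.2 h12)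
  have hm : ∀ x, m (A.mulVec x) = p * σ x + q * m x := fun x => by
    have e : 3 * (k₂ - k₁) * m (A.mulVec x) = (c₁ - c₂) * σ x + (-3 * k₁ * c₁ + 3 * k₂ * c₂) * m x := by
      simp only [σ, m]; linear_combination h1 x - h2 x
    rw [hp, hq, div_mul_eq_mul_div, div_mul_eq_mul_div, ← add_div, eq_div_iff hne, ← e]; ring
  have hs : ∀ x, σ (A.mulVec x) = (c₁ + 3 * k₁ * p) * σ x + (3 * k₁ * q - 3 * k₁ * c₁) * m x := fun x => by
    have e := h1 x
    have e' := hm x
    simp only [σ, m] at e' ⊢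
    linear_combination e + 3 * k₁ * e'
  generalize ha : c₁ + 3 * k₁ * p = a at hs
  generalize hb : 3 * k₁ * q - 3 * k₁ * c₁ = b at hs
  have root : ∀ k c : K, (∀ x, σ (A.mulVec x) - 3 * k * m (A.mulVec x) = c * (σ x - 3 * k * m x)) →
      b - 3 * k * q + 3 * k * a - 9 * k ^ 2 * p = 0 := fun k c hk => by
    have e1 := hk ![1, 0, 0]
    have e2 := hk ![1, 1, 1]
    rw [hs, hm] at e1 e2
    simp [σ, m] at e1 e2
    linear_combination e2 + (3 * k - 3) * e1
  have r1 := root k₁ c₁ h1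
  have r2 := root k₂ c₂ h2
  have r3 := root k₃ c₃ h3
  have hp0 : p = 0 := by
    have : (k₂ - k₁) * (k₃ - k₁) * (k₃ - k₂) * (9 * p) = 0 := by
      linear_combination -(k₃ - k₂) * r1 + (k₃ - k₁) * r2 - (k₂ - k₁) * r3
    simpa [sub_eq_zero, h12, h13.1, h13.2] using this
  have haq : a = q := by
    have : (k₂ - k₁) * (3 * (a - q)) = 0 := by
      linear_combination r2 - r1 + (9 * k₂ ^ 2 - 9 * k₁ ^ 2) * hp0
    simpa [sub_eq_zero, h12] using this
  refine ⟨q, fun x => ⟨?_, ?_⟩⟩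
  · have hb0 : b = 0 := by linear_combination r1 - 3 * k₁ * haq + 9 * k₁ ^ 2 * hp0
    have := hs x
    simp only [σ, m] at this
    rw [this, haq, hb0]; ring
  · have := hm x
    simp only [σ, m] at this
    rw [this, hp0]; ring

theorem exists_monomial_of_pencilAut {A : Matrix (Fin 3) (Fin 3) K} (hA : A ∈ pencilAut K) :
    ∃ (σ : Equiv.Perm (Fin 3)) (d : Fin 3 → K),
      A = (Matrix.diagonal d) * σ.permMatrix K ∧
      (∀ i, d i ^ 3 = (Equiv.Perm.sign σ : K)) ∧ d 0 * d 1 * d 2 = (Equiv.Perm.sign σ : K) := by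
  obtain ⟨hdet, c, hA⟩ := hA
  have zero : ∀ a b : Fin 3, a ≠ b → ∃ i, A i a = 0 ∧ A i b = 0 := by
    intro a b hab
    have hp : ∀ t : K, ∏ i, (A i a + t * A i b) = 0 := fun t => by
      have := (hA (Pi.single a 1 + t • Pi.single b 1)).2
      simp [Matrix.mulVec_add, Matrix.mulVec_smul] at this
      rw [Fin.prod_univ_three, this]
      fin_cases a <;> fin_cases b <;> simp at hab ⊢
    have : ∏ i, (Polynomial.C (A i a) + Polynomial.X * Polynomial.C (A i b)) = 0 :=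
      Polynomial.funext fun t => by
        rw [Polynomial.eval_prod, Polynomial.eval_zero, ← hp t]
        exact Finset.prod_congr rfl fun i _ => by simp; ring
    obtain ⟨i, -, hi⟩ := Finset.prod_eq_zero_iff.1 this
    exact ⟨i, by simpa using congrArg (Polynomial.coeff · 0) hi,
      by simpa using congrArg (Polynomial.coeff · 1) hi⟩
  have hrow : ∀ j, ∃ i, ∀ j', j' ≠ j → A i j' = 0 := by
    intro j
    obtain ⟨i, h1, h2⟩ := zero (j + 1) (j + 2) (by simp)
    refine ⟨i, fun j' hj' => ?_⟩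
    fin_cases j <;> fin_cases j' <;> simp at hj' h1 h2 ⊢ <;> assumption
  choose r hr using hrow
  have hinj : Function.Injective r := by
    intro j j' h
    by_contra hne
    have : A.det = 0 := Matrix.det_eq_zero_of_row_eq_zero (r j) fun l => by
      by_cases hl : l = j
      · subst hl; rw [h]; exact hr j' l hne
      · exact hr j l hl
    simp [hdet] at this
  let e : Equiv.Perm (Fin 3) := (Equiv.ofBijective r (Finite.injective_iff_bijective.1 hinj)).symm
  have hr' : ∀ j, r j = e.symm j := fun j => rfl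
  refine ⟨e, fun i => A i (e i), ?_⟩
  have heq : A = Matrix.diagonal (fun i => A i (e i)) * e.permMatrix K := by
    ext i j
    rw [Matrix.diagonal_mul, Equiv.Perm.permMatrix, PEquiv.toMatrix_apply]
    by_cases h : e i = j
    · simp [h]
    · have := hr (e i) j (Ne.symm h)
      rw [hr', Equiv.symm_apply_apply] at this
      simp [h, this]
  set d := fun i => A i (e i) with hd
  have hdet' : (d 0 * d 1 * d 2) * (Equiv.Perm.sign e : K) = 1 := by
    rw [← hdet, heq, Matrix.det_mul, Matrix.det_diagonal, Matrix.det_permutation, Fin.prod_univ_three]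
  have hmv : ∀ x i, A.mulVec x i = d i * x (e i) := fun x i => by
    conv_lhs => rw [heq]
    rw [← Matrix.mulVec_mulVec, Matrix.mulVec_diagonal, Equiv.Perm.permMatrix, PEquiv.toMatrix_toPEquiv_mulVec]
    rfl
  have hprod : ∀ x : Fin 3 → K, x (e 0) * x (e 1) * x (e 2) = x 0 * x 1 * x 2 := fun x => by
    rw [← Fin.prod_univ_three (fun i => x (e i)), Equiv.prod_comp, Fin.prod_univ_three]
  have hc : d 0 * d 1 * d 2 = c := by
    have := (hA 1).2
    simp only [hmv, Pi.one_apply, mul_one] at this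
    exact this
  have hsign : (Equiv.Perm.sign e : K) * (Equiv.Perm.sign e : K) = 1 := by
    rcases Int.units_eq_one_or (Equiv.Perm.sign e) with h | h <;> simp [h]
  have hcs : c = (Equiv.Perm.sign e : K) := by
    linear_combination (Equiv.Perm.sign e : K) * hdet' - (Equiv.Perm.sign e : K) ^ 2 * hc - c * hsign
  refine ⟨heq, fun i => ?_, hc.trans hcs⟩
  have := (hA (Pi.single (e i) 1)).1
  simp only [hmv] at this
  rw [← hcs]
  have hsum : ∑ j, Pi.single (M := fun _ : Fin 3 => K) (e i) 1 j ^ 3 = 1 := by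
    simp [Pi.single_apply, ite_pow]
  rw [Fin.sum_univ_three] at hsum
  rw [hsum, mul_one] at this
  rw [← this, ← Fin.sum_univ_three (fun j => (d j * Pi.single (M := fun _ : Fin 3 => K) (e i) 1 (e j)) ^ 3)]
  simp [Pi.single_apply, ite_pow, mul_pow]

theorem mem_pencilAut (σ : Equiv.Perm (Fin 3)) (d : Fin 3 → K)
    (h : ∀ i, d i ^ 3 = (Equiv.Perm.sign σ : K)) (hp : d 0 * d 1 * d 2 = (Equiv.Perm.sign σ : K)) :
    Matrix.diagonal d * σ.permMatrix K ∈ pencilAut K := by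
  refine ⟨?_, (Equiv.Perm.sign σ : K), fun x => ?_⟩
  · rw [Matrix.det_mul, Matrix.det_diagonal, Matrix.det_permutation, Fin.prod_univ_three, hp]
    rcases Int.units_eq_one_or (Equiv.Perm.sign σ) with h | h <;> simp [h]
  · simp only [← Matrix.mulVec_mulVec, Matrix.mulVec_diagonal, Equiv.Perm.permMatrix,
      PEquiv.toMatrix_toPEquiv_mulVec, Function.comp_apply]
    constructor
    · simp only [mul_pow, h]
      rw [← Fin.sum_univ_three (fun i => x i ^ 3), ← Equiv.sum_comp σ, Fin.sum_univ_three]; ring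
    · have e := Equiv.prod_comp σ x
      rw [Fin.prod_univ_three, Fin.prod_univ_three] at e
      linear_combination (x (σ 0) * x (σ 1) * x (σ 2)) * hp + (Equiv.Perm.sign σ : K) * e

theorem card_pencilAut : Nat.card ↥(pencilAut ℂ) = 54 := by
  let P := Equiv.Perm (Fin 3) × rootsOfUnity 3 ℂ × rootsOfUnity 3 ℂ
  let z : rootsOfUnity 3 ℂ → ℂ := fun a => ((a : ℂˣ) : ℂ)
  have hz : ∀ a, z a ^ 3 = 1 := fun a => by
    have := (mem_rootsOfUnity' _ _).1 a.2
    exact this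
  let dd : P → Fin 3 → ℂ := fun p =>
    ![(Equiv.Perm.sign p.1 : ℂ) * z p.2.1, (Equiv.Perm.sign p.1 : ℂ) * z p.2.2,
      (Equiv.Perm.sign p.1 : ℂ) * (z p.2.1 ^ 2 * z p.2.2 ^ 2)]
  have hsq : ∀ σ : Equiv.Perm (Fin 3), (Equiv.Perm.sign σ : ℂ) ^ 2 = 1 := fun σ => by
    rcases Int.units_eq_one_or (Equiv.Perm.sign σ) with h | h <;> simp [h]
  have h3 : ∀ p i, dd p i ^ 3 = (Equiv.Perm.sign p.1 : ℂ) := fun p i => by
    have := hsq p.1
    fin_cases i <;> simp [dd, mul_pow] <;>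
      first
      | (rw [hz]; linear_combination (Equiv.Perm.sign p.1 : ℂ) * this)
      | (rw [pow_right_comm, pow_right_comm _ 2 3, hz, hz]
         linear_combination (Equiv.Perm.sign p.1 : ℂ) * this)
  have hp : ∀ p, dd p 0 * dd p 1 * dd p 2 = (Equiv.Perm.sign p.1 : ℂ) := fun p => by
    simp [dd]
    linear_combination (Equiv.Perm.sign p.1 : ℂ) ^ 3 * z p.2.2 ^ 3 * hz p.2.1
      + (Equiv.Perm.sign p.1 : ℂ) ^ 3 * hz p.2.2 + (Equiv.Perm.sign p.1 : ℂ) * hsq p.1
  let F : P → ↥(pencilAut ℂ) := fun p => ⟨_, mem_pencilAut p.1 (dd p) (h3 p) (hp p)⟩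
  have hF : Function.Bijective F := by
    constructor
    · intro p p' h
      have h' : ∀ i j, dd p i * p.1.permMatrix ℂ i j = dd p' i * p'.1.permMatrix ℂ i j := fun i j => by
        have := congrFun (congrFun (congrArg Subtype.val h) i) j
        simpa [F, Matrix.diagonal_mul] using this
      have hne : ∀ q i, dd q i ≠ 0 := fun q i h0 => by
        have := h3 q i
        rw [h0] at this
        rcases Int.units_eq_one_or (Equiv.Perm.sign q.1) with h | h <;> simp [h] at this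
      have hσ : p.1 = p'.1 := Equiv.ext fun i => by
        by_contra hne'
        have := h' i (p.1 i)
        simp [Equiv.Perm.permMatrix, PEquiv.toMatrix_apply, Ne.symm hne', hne] at this
      have hd : ∀ i, dd p i = dd p' i := fun i => by
        have := h' i (p.1 i)
        simpa [Equiv.Perm.permMatrix, PEquiv.toMatrix_apply, hσ] using this
      have h0 := hd 0; have h1 := hd 1
      simp [dd, hσ] at h0 h1
      refine Prod.ext hσ (Prod.ext ?_ ?_)
      · exact Subtype.ext (Units.ext h0)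
      · exact Subtype.ext (Units.ext h1)
    · rintro ⟨A, hA⟩
      obtain ⟨σ, d, rfl, hd3, hdp⟩ := exists_monomial_of_pencilAut hA
      set s : ℂ := (Equiv.Perm.sign σ : ℂ) with hs
      have hs2 : s ^ 2 = 1 := hsq σ
      have hr : ∀ i, (s * d i) ^ 3 = 1 := fun i => by
        rw [mul_pow, hd3]; linear_combination (s ^ 2 + 1) * hs2
      refine ⟨(σ, rootsOfUnity.mkOfPowEq (s * d 0) (hr 0), rootsOfUnity.mkOfPowEq (s * d 1) (hr 1)), ?_⟩
      refine Subtype.ext (congrArg (Matrix.diagonal · * σ.permMatrix ℂ) (funext fun i => ?_))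
      fin_cases i <;> simp [dd, z, ← hs]
      · linear_combination d 0 * hs2
      · linear_combination d 1 * hs2
      · linear_combination (-(s ^ 4 * d 0 ^ 2 * d 1 ^ 2)) * hd3 2 + (s ^ 4 * d 2 * (d 0 * d 1 * d 2 + s)) * hdp
          + d 2 * (s ^ 2 * (s ^ 2 + 1) + 1) * hs2
  rw [← Nat.card_congr (Equiv.ofBijective F hF)]
  have hc : Nat.card (rootsOfUnity 3 ℂ) = 3 := by
    exact Complex.card_rootsOfUnity 3
  rw [Nat.card_prod, Nat.card_prod, Nat.card_perm, hc, Nat.card_fin]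
  rfl

theorem card_aut_generic :
    ∃ T : Finset ℂ, ∀ k : ℂ, k ∉ T →
      Nat.card {A : Matrix (Fin 3) (Fin 3) ℂ // A.det = 1 ∧
        ∃ c : ℂ, subst A (HesseCubic.form k) = C c * HesseCubic.form k} = 54 := by
  set bad : Matrix (Fin 3) (Fin 3) ℂ → Set ℂ := fun A =>
    {k | A ∉ pencilAut ℂ ∧ ∃ c, ∀ x, eval (A.mulVec x) (HesseCubic.form k) = c * eval x (HesseCubic.form k)}
  set S := {A : Matrix (Fin 3) (Fin 3) ℂ | A.det = 1 ∧
      ∀ v : Fin 3 → ℂ, v ≠ 0 → IsBasePt v → IsBasePt (A.mulVec v)}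
  have hbad : (⋃ A ∈ S, bad A).Finite := finite_permuting_basePts.biUnion fun A hA => by
    rcases pencilAut_or_finite A hA.1 with h | h
    · refine Set.finite_empty.subset fun k hk => (hk.1 h).elim
    · exact h.subset fun k hk => hk.2
  have hroots : {k : ℂ | k ^ 3 = 1}.Finite :=
    (Polynomial.finite_setOf_isRoot (p := (Polynomial.X ^ 3 - Polynomial.C 1 : Polynomial ℂ))
      (Polynomial.X_pow_sub_C_ne_zero three_pos 1)).subset fun γ hg => by
        simp only [Set.mem_setOf_eq] at hg ⊢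
        simp [Polynomial.IsRoot, hg]
  refine ⟨(hroots.union hbad).toFinset, fun k hk => ?_⟩
  simp only [Set.Finite.mem_toFinset, Set.mem_union, Set.mem_iUnion, not_or, not_exists] at hk
  obtain ⟨hk1, hk2⟩ := hk
  have hk1' : k ^ 3 ≠ 1 := hk1
  rw [← card_pencilAut]
  refine Nat.card_congr (Equiv.subtypeEquivRight fun A => ⟨?_, ?_⟩)
  · rintro ⟨hdet, c, hc⟩
    rw [subst_eq_iff] at hc
    have hu : IsUnit A.det := by rw [hdet]; exact isUnit_one
    have hc0 : c ≠ 0 := by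
      rintro rfl
      obtain ⟨x, hx⟩ := Matrix.mulVec_surjective_iff_isUnit.2 ((Matrix.isUnit_iff_isUnit_det A).2 hu) ![1, 0, 0]
      have := hc x
      rw [hx, eval_form] at this
      simp at this
    have hS : A ∈ S := ⟨hdet, fun v hv hb =>
      ((polyFlex_form_iff hk1').1 ((PolyFlex.map hu hc0 hc).1 ((polyFlex_form_iff hk1').2 ⟨hv, hb⟩))).2⟩
    by_contra hno
    exact hk2 A hS ⟨hno, c, hc⟩
  · rintro ⟨hdet, c, hc⟩
    refine ⟨hdet, c, (subst_eq_iff _ _ _ _).2 fun x => ?_⟩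
    rw [eval_form, eval_form]
    linear_combination (hc x).1 - 3 * k * (hc x).2

end Count

end Groth.CubicGeom
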