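import Groth.Agent.CubicGeom.Tools
import Groth.Agent.CubicGeom.CommonZero

/-!
Plane sections, lines through a point, and the polar of a point of a cubic surface.
-/

set_option autoImplicit false

namespace Groth.CubicGeom

open MvPolynomial

variable {K : Type*} [Field K] [CharZero K] [IsAlgClosed K]

namespace Form

variable {V : Type*} [AddCommGroup V] [Module K V] [FiniteDimensional K V] {T : Form K V}

theorem line_le_tangentPlane {U : Submodule K V} (hU : T.OnSurf U) {v : V} (hv : v ∈ U) :
    U ≤ LinearMap.ker (T.tri v v) := fun _ hu => hU.tri_eq_zero hv hv hu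

theorem encard_lines_through_le_three (hV : Module.finrank K V = 4) (hT : T.Smooth) {v : V} (hv : v ≠ 0) :
    {U : Submodule K V | v ∈ U ∧ T.IsLine U}.encard ≤ 3 := by
  set S := {U : Submodule K V | v ∈ U ∧ T.IsLine U} with hS
  by_contra hlt
  push Not at hlt
  obtain ⟨t, hts, htc⟩ := Set.exists_subset_encard_eq (Order.add_one_le_of_lt hlt)
  have htf : t.Finite := Set.finite_of_encard_eq_coe (k := 4) (by rw [htc]; rfl)
  have hc : htf.toFinset.card = 4 := by
    rw [htf.encard_eq_coe_toFinset_card] at htc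
    exact_mod_cast htc
  let e := htf.toFinset.equivFinOfCardEq hc
  let U : Fin 4 → Submodule K V := fun i => (e.symm i).1
  have hUinj : Function.Injective U := fun i j h => e.symm.injective (Subtype.ext h)
  have hU : ∀ i, v ∈ U i ∧ T.IsLine (U i) := fun i => hts (htf.mem_toFinset.1 (e.symm i).2)
  obtain ⟨-, hcov⟩ := IsEckardt.tangentPlane hV hT hv (U := U ∘ Fin.castSucc)
    (hUinj.comp (Fin.castSucc_injective 3)) fun i => ⟨(hU _).2, (hU _).1⟩
  obtain ⟨i, hi⟩ := le_one_of_subset_union (U ∘ Fin.castSucc) (L := U 3) fun x hx =>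
    hcov x (line_le_tangentPlane (hU 3).2.2 (hU 3).1 hx) ((hU 3).2.2 x hx)
  have := hUinj (Submodule.eq_of_le_of_finrank_eq hi (by rw [(hU 3).2.1]; exact (hU _).2.1.symm))
  exact absurd this (Fin.ne_of_gt (Fin.castSucc_lt_last i))

/-- There is a hyperplane containing all lines through a smooth point. -/
theorem exists_hyperplane_lines (hV : Module.finrank K V = 4) (hT : T.Smooth) {v : V} (hv : v ≠ 0)
    (h0 : T.tri v v v = 0) :
    Module.finrank K ↥(LinearMap.ker (T.tri v v)) = 3 ∧
      ∀ U : Submodule K V, v ∈ U → T.IsLine U → U ≤ LinearMap.ker (T.tri v v) := by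
  refine ⟨?_, fun U hv hU => line_le_tangentPlane hU.2 hv⟩
  have := finrank_ker_of_ne_zero (φ := T.tri v v) (fun h => by
    obtain ⟨w, hw⟩ := hT v hv h0; exact hw (by rw [h]; rfl))
  omega

end Form

/-- A plane section of a smooth cubic surface has no multiple component. -/
theorem squarefree_restrict {f : MvPolynomial (Fin 4) K} (hf : f.IsHomogeneous 3)
    (hT : (ofPoly f).Smooth) (A : Matrix (Fin 4) (Fin 3) K) (hA : A.rank = 3) :
    Squarefree (subst A f) := by
  classical
  set g := subst A f with hg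
  set L := Matrix.toLin' A with hL
  have hrange : Module.finrank K ↥(LinearMap.range L) = 3 := hA
  have hLinj : Function.Injective L := by
    have := L.finrank_range_add_finrank_ker
    rw [hrange, Module.finrank_fin_fun] at this
    exact LinearMap.ker_eq_bot.1 (Submodule.finrank_eq_zero.1 (by omega))
  have hg0 : g ≠ 0 := fun h => by
    refine hT.not_onSurf_hyperplane (U := LinearMap.range L) (by omega) (by simp [hrange]) ?_
    rintro x ⟨y, rfl⟩
    rw [ofPoly_self_eq_zero hf, hL, Matrix.toLin'_apply, ← eval_subst, ← hg, h, map_zero]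
  have hscale : ∀ (t : K) (y : Fin 3 → K), eval (t • y) g = t ^ 3 * eval y g := fun t y => by
    rw [hg, eval_subst, eval_subst, Matrix.mulVec_smul]
    have h1 := ofPoly_self hf (t • A.mulVec y)
    simp only [map_smul, LinearMap.smul_apply, smul_eq_mul, ofPoly_self hf] at h1
    exact mul_left_cancel₀ (b := eval (t • A.mulVec y) f) (by norm_num : (6 : K) ≠ 0)
      (by rw [← h1]; ring)
  intro P hP
  by_contra hPu
  obtain ⟨B, hB⟩ := hP
  -- `P` vanishes at the origin
  have hP0 : eval 0 P = 0 := by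
    by_contra hne
    have hconst : ∀ y : Fin 3 → K, eval y g ≠ 0 → eval y P = eval 0 P := fun y hy => by
      let line : MvPolynomial (Fin 3) K →ₐ[K] Polynomial K := aeval fun i => Polynomial.X * Polynomial.C (y i)
      have hline : ∀ (p : MvPolynomial (Fin 3) K) (t : K), (line p).eval t = eval (t • y) p := fun p t => by
        induction p using MvPolynomial.induction_on with
        | C a => simp [line]
        | add p q hp hq => simp [hp, hq]
        | mul_X p i hp => rw [map_mul, Polynomial.eval_mul, hp]; simp [line]; exact Or.inl (mul_comm _ _)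
      have hdvd : line P ∣ Polynomial.C (eval y g) * Polynomial.X ^ 3 := by
        rw [show Polynomial.C (eval y g) * Polynomial.X ^ 3 = line g from Polynomial.funext fun t => by
          rw [hline, hscale, Polynomial.eval_mul, Polynomial.eval_pow, Polynomial.eval_C, Polynomial.eval_X, mul_comm]]
        exact map_dvd line ⟨P * B, by rw [hB, mul_assoc]⟩
      obtain ⟨m, -, hass⟩ := (dvd_prime_pow Polynomial.prime_X 3).1
        ((IsUnit.dvd_mul_left (Polynomial.isUnit_C.2 hy.isUnit)).1 hdvd)
      obtain ⟨u, hu⟩ := hass.symm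
      obtain ⟨c, -, hc⟩ := Polynomial.isUnit_iff.1 u.isUnit
      have e0 := hline P 0
      have e1 := hline P 1
      rw [← hu, ← hc] at e0 e1
      simp only [Polynomial.eval_mul, Polynomial.eval_pow, Polynomial.eval_X, Polynomial.eval_C,
        zero_smul, one_smul] at e0 e1
      rcases Nat.eq_zero_or_pos m with rfl | hm
      · rw [← e0, ← e1]; simp
      · rw [zero_pow hm.ne', zero_mul] at e0; exact absurd e0.symm hne
    have : (P - C (eval 0 P)) * g = 0 := MvPolynomial.funext fun y => by
      by_cases hy : eval y g = 0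
      · simp [hy]
      · simp [hconst y hy]
    have hPC := (mul_eq_zero.1 this).resolve_right hg0
    rw [sub_eq_zero] at hPC
    exact hPu (hPC ▸ ((Ne.isUnit (a := eval 0 P) hne).map C))
  obtain ⟨z, hz⟩ := SetLike.exists_not_mem_of_ne_top (LinearMap.range L) (fun e => by
    rw [e, finrank_top, Module.finrank_fin_fun] at hrange; omega)
  set T := ofPoly f
  let Q : MvPolynomial (Fin 3) K := subst A (∑ i, C (z i) * pderiv i f)
  have hQ : ∀ y, T.tri (L y) (L y) z = 2 * eval y Q := fun y => by
    simp only [Q, eval_subst, map_sum, map_mul, eval_C]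
    rw [ofPoly_self_self hf]
    simp [hL, mul_comm]
  have hQ0 : eval 0 Q = 0 := by simpa using (hQ 0).symm
  obtain ⟨y, hy, hyv⟩ := exists_common_zero (m := 2) (by norm_num) ![P, Q]
    (fun i => by fin_cases i; exacts [hP0, hQ0])
  have hyP : eval y P = 0 := hyv 0
  have hyQ : eval y Q = 0 := hyv 1
  have hgy : eval y g = 0 := by rw [hB]; simp [hyP]
  have hv0 : T.tri (L y) (L y) (L y) = 0 := by
    rw [ofPoly_self_eq_zero hf, hL, Matrix.toLin'_apply, ← eval_subst, ← hg, hgy]
  have hdir : ∀ d, T.tri (L y) (L y) (L d) = 0 := fun d => by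
    let pol : MvPolynomial (Fin 3) K →ₐ[K] Polynomial K :=
      aeval fun i => Polynomial.C (y i) + Polynomial.X * Polynomial.C (d i)
    have hpol : ∀ (p : MvPolynomial (Fin 3) K) (t : K), (pol p).eval t = eval (y + t • d) p := fun p t => by
      induction p using MvPolynomial.induction_on with
      | C a => simp [pol]
      | add p q hp hq => simp [hp, hq]
      | mul_X p i hp => rw [map_mul, Polynomial.eval_mul, hp]; simp [pol]; exact Or.inl (mul_comm _ _)
    have hz : (pol P).eval 0 = 0 := by rw [hpol, zero_smul, add_zero, hyP]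
    have e : pol g = Polynomial.C ((1 / 2 : K) * T.tri (L y) (L y) (L d)) * Polynomial.X
        + Polynomial.C ((1 / 2 : K) * T.tri (L y) (L d) (L d)) * Polynomial.X ^ 2
        + Polynomial.C ((1 / 6 : K) * T.tri (L d) (L d) (L d)) * Polynomial.X ^ 3 :=
      Polynomial.funext fun t => by
        rw [hpol, hg, eval_subst, ← Matrix.toLin'_apply, ← hL]
        have h6 := ofPoly_self hf (L (y + t • d))
        rw [map_add, map_smul, T.expand, hv0] at h6
        rw [map_add, map_smul]
        simp
        linear_combination (-1 / 6 : K) * h6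
    have e1 := congrArg (fun p => (Polynomial.derivative p).eval 0) e
    have e2 : (Polynomial.derivative (pol g)).eval 0 = 0 := by
      have hg' : pol g = pol P * pol P * pol B := by rw [hB, map_mul, map_mul]
      rw [hg']; simp [Polynomial.derivative_mul, hz]
    rw [e2] at e1
    simpa using e1.symm
  refine hT.exists_ne (v := L y) (fun h => hy (hLinj (h.trans (map_zero L).symm))) fun w => ?_
  have hsup : LinearMap.range L ⊔ Submodule.span K {z} = ⊤ := by
    apply Submodule.eq_top_of_finrank_eq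
    have hlt : LinearMap.range L < LinearMap.range L ⊔ Submodule.span K {z} :=
      lt_of_le_of_ne le_sup_left fun e =>
        hz (e ▸ Submodule.mem_sup_right (Submodule.mem_span_singleton_self z))
    have := Submodule.finrank_lt_finrank_of_lt hlt
    have := Submodule.finrank_le (LinearMap.range L ⊔ Submodule.span K {z})
    rw [Module.finrank_fin_fun] at *
    omega
  obtain ⟨a, ⟨d, rfl⟩, b, hb, rfl⟩ := Submodule.mem_sup.1
    (hsup ▸ Submodule.mem_top : w ∈ LinearMap.range L ⊔ Submodule.span K {z})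
  obtain ⟨r, rfl⟩ := Submodule.mem_span_singleton.1 hb
  simp [hdir, hQ, hyQ]

/-- A basis starting at `a` whose first three vectors span the kernel of `φ`. -/
theorem exists_adapted_basis {a : Fin 4 → K} (ha : a ≠ 0) {φ : (Fin 4 → K) →ₗ[K] K} (hφ : φ ≠ 0)
    (h0 : φ a = 0) : ∃ b : Module.Basis (Fin 4) K (Fin 4 → K), b 0 = a ∧ φ (b 1) = 0 ∧ φ (b 2) = 0 ∧ φ (b 3) = 1 := by
  have hW : Module.finrank K ↥(LinearMap.ker φ) = 3 := by
    have := Form.finrank_ker_of_ne_zero hφ
    rw [Module.finrank_fin_fun] at this; omega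
  obtain ⟨w, hw⟩ : ∃ w, φ w ≠ 0 := by
    by_contra hc; push Not at hc; exact hφ (LinearMap.ext hc)
  have grow : ∀ {n : ℕ} (f : Fin n → Fin 4 → K), n < 3 → LinearIndependent K f →
      ∃ u, φ u = 0 ∧ u ∉ Submodule.span K (Set.range f) := fun {n} f hn hf => by
    by_contra hcon
    push Not at hcon
    have h1 : Module.finrank K ↥(LinearMap.ker φ) ≤ Module.finrank K ↥(Submodule.span K (Set.range f)) :=
      Submodule.finrank_mono fun x hx => hcon x hx
    rw [finrank_span_eq_card hf, Fintype.card_fin, hW] at h1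
    omega
  have h1 : LinearIndependent K ![a] :=
    linearIndependent_finCons.2 ⟨linearIndependent_empty_type, by simp [ha]⟩
  obtain ⟨u, hu, hu'⟩ := grow ![a] (by norm_num) h1
  have h2 : LinearIndependent K ![u, a] := linearIndependent_finCons.2 ⟨h1, hu'⟩
  obtain ⟨v, hv, hv'⟩ := grow ![u, a] (by norm_num) h2
  have h3 : LinearIndependent K ![v, u, a] := linearIndependent_finCons.2 ⟨h2, hv'⟩
  have h4 : LinearIndependent K ![(φ w)⁻¹ • w, v, u, a] := by
    refine linearIndependent_finCons.2 ⟨h3, fun hm => ?_⟩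
    have hle : Submodule.span K (Set.range ![v, u, a]) ≤ LinearMap.ker φ := by
      rw [Submodule.span_le]
      rintro x ⟨i, rfl⟩
      fin_cases i <;> simp [hu, hv, h0]
    simpa [hw] using hle hm
  have hli : LinearIndependent K ![a, u, v, (φ w)⁻¹ • w] := by
    have hh := h4.comp ![3, 2, 1, 0] (by decide)
    have heq : (![(φ w)⁻¹ • w, v, u, a] ∘ ![3, 2, 1, 0]) = ![a, u, v, (φ w)⁻¹ • w] := by
      ext i : 1; fin_cases i <;> rfl
    rwa [heq] at hh
  exact ⟨basisOfLinearIndependentOfCardEqFinrank hli (by simp), by simp, by simpa using hu, by simpa using hv,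
    by simp [hw]⟩

/-- The polar of a smooth point which is not a T-point cuts two lines through it on the tangent plane. -/
theorem firstPolar_inter {F : MvPolynomial (Fin 4) K} (hF : F.IsHomogeneous 3) {a : Fin 4 → K}
    (ha : a ≠ 0) (hFa : eval a F = 0) (hsm : ∃ i : Fin 4, eval a (pderiv i F) ≠ 0)
    {ℓ : MvPolynomial (Fin 4) K} (hℓ : ℓ = ∑ i : Fin 4, C (eval a (pderiv i F)) * X i)
    (hT : ¬ ∃ L₁ L₂ L₃ : MvPolynomial (Fin 4) K, L₁.IsHomogeneous 1 ∧ L₂.IsHomogeneous 1 ∧ L₃.IsHomogeneous 1 ∧
      F - L₁ * L₂ * L₃ ∈ Ideal.span {ℓ})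
    {P : MvPolynomial (Fin 4) K} (hP : P = ∑ i : Fin 4, a i • pderiv i F)
    {H : Submodule K (Fin 4 → K)} (hH : ∀ x : Fin 4 → K, x ∈ H ↔ eval x ℓ = 0) :
    (∃ U₁ U₂ : Submodule K (Fin 4 → K), Module.finrank K ↥U₁ = 2 ∧ Module.finrank K ↥U₂ = 2 ∧ a ∈ U₁ ∧ a ∈ U₂ ∧
        U₁ ≤ H ∧ U₂ ≤ H ∧ {x : Fin 4 → K | x ∈ H ∧ eval x P = 0} = (U₁ : Set (Fin 4 → K)) ∪ (U₂ : Set (Fin 4 → K))) ∧
      ∀ U : Submodule K (Fin 4 → K), a ∈ U → Module.finrank K ↥U = 2 → (∀ u ∈ U, eval u F = 0) →
        U ≤ H ∧ ∀ u ∈ U, eval u P = 0 := by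
  classical
  set T := ofPoly F with hTdef
  have hℓev : ∀ x, T.tri a a x = 2 * eval x ℓ := fun x => by
    rw [ofPoly_self_self hF, hℓ]; simp
  have hPev : ∀ x, T.tri a x x = 2 * eval x P := fun x => by
    rw [T.symm13, ofPoly_self_self hF, hP]; simp [mul_comm]
  have hHker : H = LinearMap.ker (T.tri a a) := by
    ext x; simp [hH, hℓev]
  have h0 : T.tri a a a = 0 := (ofPoly_self_eq_zero hF a).2 hFa
  have haH : a ∈ H := by rw [hHker]; exact h0
  have hφ : T.tri a a ≠ 0 := by
    obtain ⟨i, hi⟩ := hsm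
    intro h
    refine hi ?_
    rw [pderiv_eq_ofPoly hF, ← hTdef, h]; simp
  refine ⟨?_, fun U hU hU2 hUF => ?_⟩
  swap
  · have hs : T.OnSurf U := fun x hx => (ofPoly_self_eq_zero hF x).2 (hUF x hx)
    exact ⟨fun x hx => by rw [hHker]; exact hs.tri_eq_zero hU hU hx,
      fun x hx => by simpa [hPev] using hs.tri_eq_zero hU hx hx⟩
  obtain ⟨b, hb0, hau, hav, haz⟩ := exists_adapted_basis ha hφ h0
  set u := b 1
  set v := b 2
  have hu : u ∈ H := by rw [hHker]; exact hau
  have hv : v ∈ H := by rw [hHker]; exact hav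
  have hcoord : ∀ x, x = b.coord 0 x • a + b.coord 1 x • u + b.coord 2 x • v + b.coord 3 x • b 3 := fun x => by
    conv_lhs => rw [← b.sum_repr x, Fin.sum_univ_four, hb0]
    rfl
  have hc3 : ∀ x ∈ H, b.coord 3 x = 0 := fun x hx => by
    rw [hHker, LinearMap.mem_ker, hcoord x] at hx
    simpa [h0, hau, hav, haz] using hx
  have hq : ∀ α β γ : K, T.tri a (α • a + β • u + γ • v) (α • a + β • u + γ • v)
      = T.tri a u u * β ^ 2 + 2 * T.tri a u v * (β * γ) + T.tri a v v * γ ^ 2 := fun α β γ => by
    simp only [map_add, map_smul, LinearMap.add_apply, LinearMap.smul_apply, smul_eq_mul, h0, hau, hav,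
      T.symm23 a u a, T.symm23 a v a, T.symm23 a v u]
    ring
  obtain ⟨p, q, p', q', hfac⟩ := binary_quadratic_factor (T.tri a u u) (2 * T.tri a u v) (T.tri a v v)
  -- the quadratic part does not vanish identically
  have hne : (p ≠ 0 ∨ q ≠ 0) ∧ (p' ≠ 0 ∨ q' ≠ 0) := by
    by_contra hcon
    have hz' : ∀ β γ : K, T.tri a u u * β ^ 2 + 2 * T.tri a u v * (β * γ) + T.tri a v v * γ ^ 2 = 0 :=
      fun β γ => by
        rw [hfac]
        rcases not_and_or.1 hcon with h | h <;> push Not at h <;> simp [h.1, h.2]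
    obtain ⟨p₁, q₁, p₂, q₂, p₃, q₃, h3⟩ := binary_cubic_factor (T.tri u u u / 6) (T.tri u u v / 2)
      (T.tri u v v / 2) (T.tri v v v / 6)
    let ψ : K → K → (Fin 4 → K) →ₗ[K] K := fun c d => c • b.coord 1 + d • b.coord 2
    refine hT ⟨linPoly (ψ p₁ q₁), linPoly (ψ p₂ q₂), linPoly (ψ p₃ q₃), isHomogeneous_linPoly _,
      isHomogeneous_linPoly _, isHomogeneous_linPoly _, ?_⟩
    have hdvd := linPoly_dvd_of_forall (T.tri a a) (b 3) haz
      (F - linPoly (ψ p₁ q₁) * linPoly (ψ p₂ q₂) * linPoly (ψ p₃ q₃)) fun x hx => by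
        have hx3 := hc3 x (by rw [hHker]; exact hx)
        have hx' := hcoord x
        rw [hx3, zero_smul, add_zero] at hx'
        have h6 := ofPoly_self hF x
        rw [← hTdef, hx', Form.combine3', ← hx', h0, hau, hav] at h6
        simp only [map_sub, map_mul, eval_linPoly, ψ, LinearMap.add_apply, LinearMap.smul_apply, smul_eq_mul]
        linear_combination (-1 / 6 : K) * h6 + h3 (b.coord 1 x) (b.coord 2 x)
          + (b.coord 0 x / 2) * hz' (b.coord 1 x) (b.coord 2 x)
    have hℓlin : linPoly (T.tri a a) = C 2 * ℓ := MvPolynomial.funext fun x => by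
      simp [eval_linPoly, hℓev]
    rw [Ideal.mem_span_singleton]
    rw [hℓlin] at hdvd
    exact dvd_trans (dvd_mul_left _ _) hdvd
  have hline : ∀ c d : K, (c ≠ 0 ∨ d ≠ 0) → LinearIndependent K ![a, (-d) • u + c • v] := by
    intro c d hcd
    refine (LinearIndependent.pair_iff' ha).2 fun r hr => ?_
    have := Fintype.linearIndependent_iff.1 b.linearIndependent ![r, d, -c, 0] (by
      simp [Fin.sum_univ_four, hb0]; rw [hr]; simp only [u, v]; module)
    rcases hcd with h | h
    · exact h (by simpa using this 2)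
    · exact h (by simpa using this 1)
  refine ⟨Submodule.span K {a, (-q) • u + p • v}, Submodule.span K {a, (-q') • u + p' • v},
    finrank_span_pair (hline p q hne.1), finrank_span_pair (hline p' q' hne.2),
    Submodule.subset_span (Or.inl rfl), Submodule.subset_span (Or.inl rfl), ?_, ?_, ?_⟩
  · rw [Submodule.span_le]; rintro x (rfl | rfl)
    · exact haH
    · exact H.add_mem (H.smul_mem _ hu) (H.smul_mem _ hv)
  · rw [Submodule.span_le]; rintro x (rfl | rfl)
    · exact haH
    · exact H.add_mem (H.smul_mem _ hu) (H.smul_mem _ hv)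
  ext x
  simp only [Set.mem_setOf_eq, Set.mem_union, SetLike.mem_coe]
  constructor
  · rintro ⟨hxH, hxP⟩
    have hx' := hcoord x
    rw [hc3 x hxH, zero_smul, add_zero] at hx'
    set α := b.coord 0 x
    set β := b.coord 1 x
    set γ := b.coord 2 x
    have h2 := hPev x
    rw [hxP, mul_zero, hx', hq, hfac] at h2
    have key : ∀ c d : K, (c ≠ 0 ∨ d ≠ 0) → c * β + d * γ = 0 →
        x ∈ Submodule.span K {a, (-d) • u + c • v} := by
      intro c d hcd h
      rw [Submodule.mem_span_pair, hx']
      by_cases hc : c = 0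
      · have hd := hcd.resolve_left (not_not.2 hc)
        have hγ : γ = 0 := by simpa [hc, hd] using h
        refine ⟨α, -β / d, ?_⟩
        rw [hc, hγ]; match_scalars <;> field_simp <;> ring
      · refine ⟨α, γ / c, ?_⟩
        have hβ : β = -d * γ / c := by field_simp; linear_combination h
        rw [hβ]; match_scalars <;> field_simp <;> ring
    rcases mul_eq_zero.1 h2 with h | h
    exacts [Or.inl (key p q hne.1 h), Or.inr (key p' q' hne.2 h)]
  · intro hx
    have key : ∀ c d : K, (∀ β γ : K, c * β + d * γ = 0 →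
        T.tri a u u * β ^ 2 + 2 * T.tri a u v * (β * γ) + T.tri a v v * γ ^ 2 = 0) →
        ∀ x ∈ Submodule.span K {a, (-d) • u + c • v}, x ∈ H ∧ eval x P = 0 := by
      intro c d hcd x hx
      obtain ⟨α, r, rfl⟩ := Submodule.mem_span_pair.1 hx
      rw [show α • a + r • ((-d) • u + c • v) = α • a + (-(r * d)) • u + (r * c) • v by module]
      refine ⟨H.add_mem (H.add_mem (H.smul_mem _ haH) (H.smul_mem _ hu)) (H.smul_mem _ hv), ?_⟩
      have h2 := hPev (α • a + (-(r * d)) • u + (r * c) • v)
      rw [hq, hcd _ _ (by ring)] at h2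
      simpa using h2.symm
    rcases hx with hx | hx
    · exact key p q (fun β γ h => by rw [hfac, h, zero_mul]) x hx
    · exact key p' q' (fun β γ h => by rw [hfac, h, mul_zero]) x hx

end Groth.CubicGeom
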