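import Groth.Agent.CubicGeom.Basic
import Groth.Agent.CubicGeom.CommonZero

/-!
Plane cubics: flexes and the Hesse normal form.
-/

set_option autoImplicit false

namespace Groth.CubicGeom

open MvPolynomial Finset

namespace Form

variable {K V : Type*} [Field K] [AddCommGroup V] [Module K V] (T : Form K V)

/-- `v` is a flex: some other point `w` spans with it a line meeting the cubic three times at `v`. -/
def IsFlex (v : V) : Prop :=
  ∃ w, LinearIndependent K ![v, w] ∧ T.tri v v v = 0 ∧ T.tri v v w = 0 ∧ T.tri v w w = 0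

theorem tri_self_self_eq (v u : V) :
    6 * T.tri v v u = T.tri (v + u) (v + u) (v + u) - T.tri (v - u) (v - u) (v - u) - 2 * T.tri u u u := by
  have h1 := T.expand v u 1
  have h2 := T.expand v u (-1)
  simp only [one_smul, neg_smul, ← sub_eq_add_neg] at h1 h2
  rw [h1, h2]; ring

theorem combine3 (a b c : V) (x y z : K) :
    T.tri (x • a + y • b + z • c) (x • a + y • b + z • c) (x • a + y • b + z • c) =
      x ^ 3 * T.tri a a a + y ^ 3 * T.tri b b b + z ^ 3 * T.tri c c c
      + 3 * x ^ 2 * y * T.tri a a b + 3 * x ^ 2 * z * T.tri a a c + 3 * x * y ^ 2 * T.tri a b b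
      + 3 * y ^ 2 * z * T.tri b b c + 3 * x * z ^ 2 * T.tri a c c + 3 * y * z ^ 2 * T.tri b c c
      + 6 * x * y * z * T.tri a b c := by
  simp only [map_add, map_smul, LinearMap.add_apply, LinearMap.smul_apply, smul_eq_mul,
    T.symm12 b a, T.symm12 c a, T.symm12 c b, T.symm23 a b a, T.symm23 b b a, T.symm23 a c a,
    T.symm23 c c a, T.symm23 b c b, T.symm23 c c b, T.symm23 a c b, T.symm23 b c a]
  ring

theorem exists_lin_eq_zero_or {v w : V} (hli : LinearIndependent K ![v, w]) {a b : K}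
    (h : a ≠ 0 ∨ b ≠ 0) : a • v + b • w ≠ 0 := by
  intro h0
  have := LinearIndependent.pair_iff.1 hli a b h0
  tauto

/-- The span of two vectors is the kernel of a nonzero functional in a three-dimensional space. -/
theorem mem_span_of_functional [FiniteDimensional K V] (hd : Module.finrank K V = 3) {v w : V}
    (hli : LinearIndependent K ![v, w]) (φ : V →ₗ[K] K) (hφ : φ ≠ 0) (hv : φ v = 0) (hw : φ w = 0)
    {u : V} (hu : φ u = 0) : u ∈ Submodule.span K {v, w} := by
  have hle : Submodule.span K {v, w} ≤ LinearMap.ker φ := by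
    rw [Submodule.span_le]; rintro x (rfl | rfl) <;> simpa
  have h2 : Module.finrank K ↥(Submodule.span K {v, w}) = 2 := by
    have := finrank_span_eq_card hli
    rwa [Fintype.card_fin, show Set.range ![v, w] = {v, w} by simp [Matrix.range_cons, Set.pair_comm]] at this
  have h3 : Module.finrank K ↥(LinearMap.ker φ) ≤ 2 := by
    by_contra hc
    have h4 : LinearMap.ker φ = ⊤ :=
      Submodule.eq_top_of_finrank_eq (by have := Submodule.finrank_le (LinearMap.ker φ); omega)
    exact hφ (LinearMap.ker_eq_top.1 h4)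
  rw [Submodule.eq_of_le_of_finrank_le hle (by omega)]
  exact hu

variable {T}

theorem Smooth.exists_kernel_of_isFlex [FiniteDimensional K V] (hd : Module.finrank K V = 3)
    (hT : T.Smooth) {v : V} (hv : T.IsFlex v) : ∃ n, n ≠ 0 ∧ ∀ u, T.tri v n u = 0 := by
  obtain ⟨w, hli, h0, h1, h2⟩ := hv
  have hv0 : v ≠ 0 := by simpa using hli.ne_zero (0 : Fin 2)
  obtain ⟨z, hz⟩ := hT v hv0 h0
  refine ⟨T.tri v w z • v + (-T.tri v v z) • w, exists_lin_eq_zero_or hli (Or.inr (neg_ne_zero.2 hz)),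
    fun u => ?_⟩
  have hmem : u - (T.tri v v u / T.tri v v z) • z ∈ Submodule.span K {v, w} :=
    mem_span_of_functional hd hli (T.tri v v) (fun h => hz (by rw [h]; rfl)) h0 h1
      (by simp [hz])
  obtain ⟨a, b, hab⟩ := Submodule.mem_span_pair.1 hmem
  rw [show u = a • v + b • w + (T.tri v v u / T.tri v v z) • z by rw [hab, sub_add_cancel]]
  simp only [map_add, map_smul, LinearMap.add_apply, LinearMap.smul_apply, smul_eq_mul,
    h0, h1, h2, T.symm23 v w v]
  ring

theorem Smooth.isFlex_of_kernel (hT : T.Smooth) {v n : V} (hv : v ≠ 0) (h0 : T.tri v v v = 0)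
    (hn : n ≠ 0) (h : ∀ u, T.tri v n u = 0) : T.IsFlex v := by
  refine ⟨n, ?_, h0, by rw [T.symm23]; exact h v, h n⟩
  rw [LinearIndependent.pair_iff]
  intro a b hab
  by_cases hb : b = 0
  · subst hb; simp only [zero_smul, add_zero, smul_eq_zero] at hab; exact ⟨hab.resolve_right hv, rfl⟩
  · have hn' : n = -(b⁻¹ * a) • v := by
      rw [neg_smul, mul_smul, ← smul_neg, eq_inv_smul_iff₀ hb]
      exact eq_neg_of_add_eq_zero_right hab
    by_cases ha : a = 0
    · exact absurd (by simp [hn', ha] : n = 0) hn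
    · refine absurd (fun u => ?_) (hT.exists_ne hv)
      have := h u
      simpa [hn', hb, ha] using this

end Form

section Plane

variable {K : Type*} [Field K] [IsAlgClosed K] [CharZero K]

theorem exists_isFlex {T : Form K (Fin 3 → K)} (hT : T.Smooth) : ∃ v, T.IsFlex v := by
  classical
  let e : Fin 3 → (Fin 3 → K) := fun i => Pi.single i 1
  let H : Matrix (Fin 3) (Fin 3) (MvPolynomial (Fin 3) K) :=
    fun i j => ∑ l, C (T.tri (e l) (e i) (e j)) * X l
  have hrepr : ∀ v : Fin 3 → K, v = ∑ l, v l • e l := fun v => by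
    simpa [e] using pi_eq_sum_univ' v
  have hH : ∀ (v : Fin 3 → K) i j, eval v (H i j) = T.tri v (e i) (e j) := fun v i j => by
    conv_rhs => rw [hrepr v]
    simp [H, mul_comm]
  let q : MvPolynomial (Fin 3) K := ∑ i, ∑ j, H i j * (X i * X j)
  have hq : ∀ v, eval v q = T.tri v v v := fun v => by
    have h2 : T.tri v v v = ∑ i, ∑ j, T.tri v (e i) (e j) * (v i * v j) := by
      conv_lhs => rw [show T.tri v v v = T.tri v (∑ l, v l • e l) (∑ l, v l • e l) by rw [← hrepr v]]
      simp only [map_sum, map_smul, LinearMap.coe_sum, Finset.sum_apply, LinearMap.smul_apply,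
        smul_eq_mul, mul_sum]
      rw [Finset.sum_comm]
      exact sum_congr rfl fun i _ => sum_congr rfl fun j _ => by ring
    simp [q, hH, h2]
  obtain ⟨v, hv, hvz⟩ := exists_common_zero (m := 2) (by norm_num) ![q, H.det] (fun i => by
    fin_cases i
    · simp [q, H]
    · show eval 0 H.det = 0
      rw [RingHom.map_det, show (eval 0).mapMatrix H = 0 by
        ext i j; rw [RingHom.mapMatrix_apply, Matrix.map_apply, hH]; simp]
      simp)
  have h0 : T.tri v v v = 0 := by simpa [hq] using hvz 0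
  have hdet : ((eval v).mapMatrix H).det = 0 := by rw [← RingHom.map_det]; simpa using hvz 1
  obtain ⟨n, hn, hn0⟩ := Matrix.exists_mulVec_eq_zero_iff.2 hdet
  refine ⟨v, hT.isFlex_of_kernel hv h0 hn fun u => ?_⟩
  have h1 : ∀ i, T.tri v (e i) n = 0 := fun i => by
    have := congrFun hn0 i
    rw [show n = ∑ l, n l • e l from hrepr n]
    simpa [Matrix.mulVec, dotProduct, RingHom.mapMatrix_apply, hH, mul_comm] using this
  rw [hrepr u, map_sum]
  exact Finset.sum_eq_zero fun i _ => by rw [map_smul, T.symm23, h1, smul_zero]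

/-- The linear map with given images of the three basis vectors. -/
noncomputable def lin3 {V : Type*} [AddCommGroup V] [Module K V] (a b c : V) : (Fin 3 → K) →ₗ[K] V :=
  (LinearMap.proj 0).smulRight a + (LinearMap.proj 1).smulRight b + (LinearMap.proj 2).smulRight c

theorem lin3_apply {V : Type*} [AddCommGroup V] [Module K V] (a b c : V) (x : Fin 3 → K) :
    lin3 a b c x = x 0 • a + x 1 • b + x 2 • c := rfl

theorem exists_weierstrass {T : Form K (Fin 3 → K)} (hT : T.Smooth) :
    ∃ (L : (Fin 3 → K) →ₗ[K] (Fin 3 → K)) (a b c : K), Function.Injective L ∧ c ≠ 0 ∧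
      ∀ x, T.tri (L x) (L x) (L x) =
        c * (x 1 ^ 2 * x 2 - x 0 ^ 3 - a * x 0 * x 2 ^ 2 - b * x 2 ^ 3) := by
  obtain ⟨v, w, hli, h0, h1, h2⟩ := exists_isFlex hT
  have hv0 : v ≠ 0 := by simpa using hli.ne_zero (0 : Fin 2)
  obtain ⟨z, hz⟩ := hT v hv0 h0
  have hc0 : T.tri w w w ≠ 0 := by
    intro h3
    obtain ⟨t, ht⟩ := IsAlgClosed.exists_root
      (Polynomial.C (T.tri v v z) * Polynomial.X ^ 2 + Polynomial.C (2 * T.tri v w z) * Polynomial.X
        + Polynomial.C (T.tri w w z) : Polynomial K)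
      (by rw [Polynomial.degree_quadratic hz]; decide)
    simp only [Polynomial.IsRoot, Polynomial.eval_add, Polynomial.eval_mul, Polynomial.eval_pow,
      Polynomial.eval_C, Polynomial.eval_X] at ht
    refine hT.exists_ne (v := t • v + (1 : K) • w) (Form.exists_lin_eq_zero_or hli (Or.inr one_ne_zero))
      (fun u => ?_)
    have hmem : u - (T.tri v v u / T.tri v v z) • z ∈ Submodule.span K {v, w} :=
      Form.mem_span_of_functional (by simp) hli (T.tri v v) (fun h => hz (by rw [h]; rfl)) h0 h1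
        (by simp [hz])
    obtain ⟨a, b, hab⟩ := Submodule.mem_span_pair.1 hmem
    rw [show u = a • v + b • w + (T.tri v v u / T.tri v v z) • z by rw [hab, sub_add_cancel]]
    rw [T.polar_expand]
    simp only [map_add, map_smul, smul_eq_mul, h0, h1, h2, h3, T.symm23 v w v,
      (show T.tri w w v = 0 by rw [T.symm13]; exact h2)]
    linear_combination (T.tri v v u / T.tri v v z) * ht
  -- clean the three cross coefficients
  set p := T.tri v v z with hp
  obtain ⟨s, hs⟩ : ∃ s, s = -T.tri v w z / p := ⟨_, rfl⟩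
  obtain ⟨s', hs'⟩ : ∃ s, s = -T.tri v z z / (2 * p) := ⟨_, rfl⟩
  set w' := w + s • v with hw'
  set z' := z + s' • v with hz'
  have v0 : T.tri v v z' = p := by simp [hz', h0, hp]
  have v1 : T.tri v v w' = 0 := by simp [hw', h0, h1]
  have v2 : T.tri v w' w' = 0 := by simp [hw', h0, h1, h2, T.symm23 v w v]
  have v3 : T.tri v w' z' = 0 := by
    simp only [hw', hz', map_add, map_smul, LinearMap.add_apply, LinearMap.smul_apply, smul_eq_mul,
      h0, T.symm23 v w v, h1, ← hp, hs]
    field_simp; ring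
  have v4 : T.tri v z' z' = 0 := by
    simp only [hz', map_add, map_smul, LinearMap.add_apply, LinearMap.smul_apply, smul_eq_mul,
      h0, T.symm23 v z v, ← hp, hs']
    field_simp; ring
  have c0 : T.tri w' w' w' = T.tri w w w := by
    have := T.expand w v s
    rw [← hw'] at this
    rw [this, h0, T.symm13 w v v, T.symm13 w w v, h1, h2]; ring
  obtain ⟨r, hr⟩ : ∃ r, r = -T.tri w' w' z' / T.tri w' w' w' := ⟨_, rfl⟩
  set z'' := z' + r • w' with hz''
  have u1 : T.tri w' w' z'' = 0 := by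
    simp only [hz'', map_add, map_smul, smul_eq_mul, hr]
    rw [div_mul_cancel₀ _ (c0 ▸ hc0)]; ring
  have u2 : T.tri v v z'' = p := by simp [hz'', v0, v1]
  have u3 : T.tri v w' z'' = 0 := by simp [hz'', v3, v2]
  have u4 : T.tri v z'' z'' = 0 := by simp [hz'', v4, v3, v2, T.symm23 v z' w']
  set c := T.tri w w w
  refine ⟨lin3 w' v ((-c / (3 * p)) • z''), T.tri w' z'' z'' * c / (3 * p ^ 2),
    -(T.tri z'' z'' z'' * c ^ 2) / (27 * p ^ 3), -c, ?_, neg_ne_zero.2 hc0, fun x => ?_⟩
  · rw [← LinearMap.ker_eq_bot, LinearMap.ker_eq_bot']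
    intro x hx
    rw [lin3_apply] at hx
    have hx' := congrArg (fun u => T.tri v v u) hx
    simp only [map_add, map_smul, smul_eq_mul, v1, h0, u2, map_zero] at hx'
    have h20 : x 2 = 0 := by
      field_simp at hx'
      simpa [hc0, hz] using hx'
    rw [h20, zero_smul, add_zero] at hx
    have hx2 : (x 0 * s + x 1) • v + x 0 • w = 0 := by rw [← hx, hw']; module
    obtain ⟨e1, e2⟩ := LinearIndependent.pair_iff.1 hli _ _ hx2
    rw [e2, zero_mul, zero_add] at e1
    ext i; fin_cases i <;> simp [e1, e2, h20]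
  · rw [lin3_apply, show x 2 • ((-c / (3 * p)) • z'') = (x 2 * (-c / (3 * p))) • z'' from smul_smul _ _ _,
      T.combine3, u1, u2, u4, h0, c0, T.symm13 w' v v, v1, T.symm12 w' v z'', u3,
      (show T.tri w' w' v = 0 by rw [T.symm13]; exact v2)]
    field_simp; ring

theorem exists_hesse {T : Form K (Fin 3 → K)} (hT : T.Smooth) :
    ∃ (L : (Fin 3 → K) →ₗ[K] (Fin 3 → K)) (k c : K), Function.Injective L ∧ k ^ 3 ≠ 1 ∧ c ≠ 0 ∧
      ∀ x, T.tri (L x) (L x) (L x) =
        c * (x 0 ^ 3 + x 1 ^ 3 + x 2 ^ 3 - 3 * k * (x 0 * x 1 * x 2)) := by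
  obtain ⟨L, a, b, c, hL, hc, hW⟩ := exists_weierstrass hT
  obtain ⟨x₀, hx₀⟩ := IsAlgClosed.exists_root
    (Polynomial.C 3 * Polynomial.X ^ 4 + (Polynomial.C (6 * a) * Polynomial.X ^ 2
      + Polynomial.C (12 * b) * Polynomial.X + Polynomial.C (-a ^ 2)) : Polynomial K)
    (by
      rw [Polynomial.degree_add_eq_left_of_degree_lt]
      · rw [Polynomial.degree_C_mul_X_pow 4 (by norm_num : (3 : K) ≠ 0)]; decide
      · rw [Polynomial.degree_C_mul_X_pow 4 (by norm_num : (3 : K) ≠ 0)]
        exact Polynomial.degree_quadratic_le.trans_lt (by decide))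
  simp only [Polynomial.IsRoot, Polynomial.eval_add, Polynomial.eval_mul, Polynomial.eval_pow,
      Polynomial.eval_C, Polynomial.eval_X] at hx₀
  obtain ⟨y₀, hy₀⟩ := IsAlgClosed.exists_pow_nat_eq (x₀ ^ 3 + a * x₀ + b) two_pos
  obtain ⟨w, hw⟩ := IsAlgClosed.exists_root
    (Polynomial.C 1 * Polynomial.X ^ 2 + Polynomial.C 1 * Polynomial.X + Polynomial.C 1 : Polynomial K)
    (by rw [Polynomial.degree_quadratic one_ne_zero]; decide)
  simp only [Polynomial.IsRoot, Polynomial.eval_add, Polynomial.eval_mul, Polynomial.eval_pow,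
      Polynomial.eval_C, Polynomial.eval_X, one_mul] at hw
  have hw1 : w ≠ 1 := by rintro rfl; norm_num at hw
  have hw3 : w ^ 3 = 1 := by linear_combination (w - 1) * hw
  -- no double root
  have hy : y₀ ≠ 0 := by
    intro h
    rw [h] at hy₀
    have hd : 3 * x₀ ^ 2 + a = 0 := pow_eq_zero_iff two_ne_zero |>.1
      (by linear_combination (-1 : K) * hx₀ - 12 * x₀ * hy₀ : (3 * x₀ ^ 2 + a) ^ 2 = 0)
    have hne : L ![x₀, 0, 1] ≠ 0 := fun h' => by
      have := congrFun (hL (h'.trans (map_zero L).symm)) 2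
      simp at this
    refine hT.exists_ne hne fun u => ?_
    obtain ⟨x, rfl⟩ := (LinearMap.injective_iff_surjective.1 hL) u
    have h6 := T.tri_self_self_eq (L ![x₀, 0, 1]) (L x)
    rw [← map_add, ← map_sub, hW, hW, hW] at h6
    simp only [Pi.add_apply, Pi.sub_apply, Matrix.cons_val_zero, Matrix.cons_val_one, Matrix.cons_val] at h6
    have : (6 : K) * T.tri (L ![x₀, 0, 1]) (L ![x₀, 0, 1]) (L x) = 0 := by
      linear_combination h6 + c * (-2 * x 0 + 2 * x₀ * x 2) * hd + 6 * c * x 2 * hy₀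
    simpa using this
  obtain ⟨l, hl⟩ : ∃ l, l = (3 * x₀ ^ 2 + a) / (2 * y₀) := ⟨_, rfl⟩
  have hl' : 2 * y₀ * l = 3 * x₀ ^ 2 + a := by rw [hl]; field_simp
  have hl2 : l ^ 2 = 3 * x₀ := by
    have : (2 * y₀) ^ 2 * (l ^ 2 - 3 * x₀) = 0 := by
      linear_combination (2 * y₀ * l + (3 * x₀ ^ 2 + a)) * hl' - hx₀ - 12 * x₀ * hy₀
    simpa [hy, sub_eq_zero] using this
  obtain ⟨μ, hμ⟩ : ∃ μ, μ = y₀ - l * x₀ := ⟨_, rfl⟩
  have key : ∀ x y z : K, y ^ 2 * z - x ^ 3 - a * x * z ^ 2 - b * z ^ 3 =
      z * ((y - l * x - μ * z) * (y + l * x + μ * z)) - (x - x₀ * z) ^ 3 := by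
    intro x y z
    subst hμ
    linear_combination z * (x - x₀ * z) ^ 2 * hl2 + (x - x₀ * z) * z ^ 2 * hl' + z ^ 3 * hy₀
  have sum0 : ∀ q r : K, (q + r) + (w * q + w ^ 2 * r) + (w ^ 2 * q + w * r) = 0 := fun q r => by
    linear_combination (q + r) * hw
  have pair0 : ∀ q r : K, (q + r) * (w * q + w ^ 2 * r) + (w * q + w ^ 2 * r) * (w ^ 2 * q + w * r)
      + (w ^ 2 * q + w * r) * (q + r) = -(3 * q * r) := fun q r => by
    linear_combination (w * q ^ 2 + w * r ^ 2 + (w ^ 2 - w + 3) * q * r) * hw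
  have prod0 : ∀ q r : K, (q + r) * (w * q + w ^ 2 * r) * (w ^ 2 * q + w * r) = q ^ 3 + r ^ 3 := fun q r => by
    linear_combination (q ^ 3 + r ^ 3) * hw3 + w ^ 2 * (q ^ 2 * r + q * r ^ 2) * hw
  let qa : (Fin 3 → K) → K := fun x => x 1 + x 2
  let qb : (Fin 3 → K) → K := fun x => w * x 1 + w ^ 2 * x 2
  let qc : (Fin 3 → K) → K := fun x => w ^ 2 * x 1 + w * x 2
  by_cases hl0 : l = 0
  · obtain ⟨e, he⟩ := IsAlgClosed.exists_pow_nat_eq (1 / (2 * y₀)) three_pos
    have he0 : e ≠ 0 := fun h => by simp [h, hy] at he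
    have hμ' : μ = y₀ := by rw [hμ, hl0]; ring
    let g : (Fin 3 → K) → (Fin 3 → K) := fun x =>
      ![e * x 0 + x₀ * (qc x / (2 * y₀)), (qa x - qb x) / 2, qc x / (2 * y₀)]
    let G : (Fin 3 → K) →ₗ[K] (Fin 3 → K) :=
      { toFun := g
        map_add' := fun x y => by ext i; fin_cases i <;> simp [g, qa, qb, qc] <;> ring
        map_smul' := fun r x => by ext i; fin_cases i <;> simp [g, qa, qb, qc] <;> ring }
    refine ⟨L ∘ₗ G, 0, -c / (2 * y₀), ?_, by norm_num, by simp [hc, hy], fun x => ?_⟩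
    · rw [LinearMap.coe_comp]
      refine hL.comp ?_
      rw [← LinearMap.ker_eq_bot, LinearMap.ker_eq_bot']
      intro x hx
      have i0 := congrFun hx 0
      have i1 := congrFun hx 1
      have i2 := congrFun hx 2
      simp [G, g, qa, qb, qc, hy] at i0 i1 i2
      simp [i2, he0] at i0
      have e1 : x 1 = 0 := by
        have : (2 * (1 - w)) * x 1 = 0 := by
          linear_combination i1 - (w ^ 2) * (1 - w ^ 2) * i2 + (-(x 1) + (1 - w ^ 2) * (w * x 1 + x 2)) * hw3
        simpa [sub_eq_zero, hw1.symm] using this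
      have e2 : x 2 = 0 := by
        rw [e1] at i2
        have : w * x 2 = 0 := by linear_combination i2
        simpa [show w ≠ 0 by rintro rfl; simp at hw3] using this
      ext i; fin_cases i <;> simp [i0, e1, e2]
    · simp only [LinearMap.coe_comp, Function.comp_apply, hW]
      simp only [G, g, LinearMap.coe_mk, AddHom.coe_mk, Matrix.cons_val_zero, Matrix.cons_val_one,
        Matrix.cons_val]
      rw [key]
      have su : (qa x - qb x) / 2 - l * (e * x 0 + x₀ * (qc x / (2 * y₀))) - μ * (qc x / (2 * y₀)) = qa x := by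
        rw [hl0, hμ']; field_simp
        linear_combination (-y₀) * sum0 (x 1) (x 2)
      have sv : (qa x - qb x) / 2 + l * (e * x 0 + x₀ * (qc x / (2 * y₀))) + μ * (qc x / (2 * y₀)) = -qb x := by
        rw [hl0, hμ']; field_simp
        linear_combination y₀ * sum0 (x 1) (x 2)
      rw [su, sv, add_sub_cancel_right, mul_pow, he]
      field_simp
      linear_combination (-1 : K) * prod0 (x 1) (x 2)
  · obtain ⟨s, hs⟩ : ∃ s, s = 27 * y₀ / (4 * l ^ 3) := ⟨_, rfl⟩
    have hs' : 4 * l ^ 3 * s = 27 * y₀ := by rw [hs]; field_simp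
    have hs1 : s ≠ 1 := by
      rintro rfl
      let v : Fin 3 → K := ![-3 / (2 * l) + x₀ * (1 / (2 * y₀)), 0, 1 / (2 * y₀)]
      have hne : L v ≠ 0 := fun h' => by
        have := congrFun (hL (h'.trans (map_zero L).symm)) 2
        simp [v, hy] at this
      refine hT.exists_ne hne fun u => ?_
      obtain ⟨x, rfl⟩ := (LinearMap.injective_iff_surjective.1 hL) u
      have h6 := T.tri_self_self_eq (L v) (L x)
      rw [← map_add, ← map_sub, hW, hW, hW, key, key, key] at h6
      simp only [v, Pi.add_apply, Pi.sub_apply, Matrix.cons_val_zero, Matrix.cons_val_one,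
        Matrix.cons_val] at h6
      have : (6 : K) * T.tri (L v) (L v) (L x) = 0 := by
        obtain rfl : y₀ = 4 * l ^ 3 / 27 := by linear_combination -hs' / 27
        rw [h6, hμ]; field_simp; ring
      simpa using this
    obtain ⟨e, he⟩ := IsAlgClosed.exists_pow_nat_eq (1 / (1 - s)) three_pos
    have hs1' : (1 : K) - s ≠ 0 := sub_ne_zero.2 (Ne.symm hs1)
    have he' : e ^ 3 * (1 - s) = 1 := by rw [he]; field_simp
    have he0 : e ≠ 0 := fun h => by simp [h] at he'
    let g : (Fin 3 → K) → (Fin 3 → K) := fun x =>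
      ![-3 * e * x 0 / (2 * l) + x₀ * ((e * x 0 + qc x) / (2 * y₀)), (qa x - qb x) / 2,
        (e * x 0 + qc x) / (2 * y₀)]
    let G : (Fin 3 → K) →ₗ[K] (Fin 3 → K) :=
      { toFun := g
        map_add' := fun x y => by ext i; fin_cases i <;> simp [g, qa, qb, qc] <;> ring
        map_smul' := fun r x => by ext i; fin_cases i <;> simp [g, qa, qb, qc] <;> ring }
    refine ⟨L ∘ₗ G, e, -c / (2 * y₀), ?_, ?_, by simp [hc, hy], fun x => ?_⟩
    · rw [LinearMap.coe_comp]
      refine hL.comp ?_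
      rw [← LinearMap.ker_eq_bot, LinearMap.ker_eq_bot']
      intro x hx
      have i0 := congrFun hx 0
      have i1 := congrFun hx 1
      have i2 := congrFun hx 2
      simp [G, g, qa, qb, qc, hy] at i0 i1 i2
      simp [i2, he0, hl0] at i0
      simp [i0] at i2
      have e1 : x 1 = 0 := by
        have : (2 * (1 - w)) * x 1 = 0 := by
          linear_combination i1 - (w ^ 2) * (1 - w ^ 2) * i2 + (-(x 1) + (1 - w ^ 2) * (w * x 1 + x 2)) * hw3
        simpa [sub_eq_zero, hw1.symm] using this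
      have e2 : x 2 = 0 := by
        rw [e1] at i2
        have : w * x 2 = 0 := by linear_combination i2
        simpa [show w ≠ 0 by rintro rfl; simp at hw3] using this
      ext i; fin_cases i <;> simp [i0, e1, e2]
    · intro h
      rw [h] at he'
      have : s = 0 := by linear_combination -he'
      simp [this, hy] at hs'
    · simp only [LinearMap.coe_comp, Function.comp_apply, hW]
      simp only [G, g, LinearMap.coe_mk, AddHom.coe_mk, Matrix.cons_val_zero, Matrix.cons_val_one,
        Matrix.cons_val]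
      rw [key]
      have su : (qa x - qb x) / 2 - l * (-3 * e * x 0 / (2 * l) + x₀ * ((e * x 0 + qc x) / (2 * y₀)))
          - μ * ((e * x 0 + qc x) / (2 * y₀)) = e * x 0 + qa x := by
        rw [hμ]; field_simp
        linear_combination -y₀ * sum0 (x 1) (x 2)
      have sv : (qa x - qb x) / 2 + l * (-3 * e * x 0 / (2 * l) + x₀ * ((e * x 0 + qc x) / (2 * y₀)))
          + μ * ((e * x 0 + qc x) / (2 * y₀)) = -(e * x 0) - qb x := by
        rw [hμ]; field_simp
        linear_combination y₀ * sum0 (x 1) (x 2)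
      rw [su, sv, add_sub_cancel_right]
      have expand : (e * x 0 + qa x) * (e * x 0 + qb x) * (e * x 0 + qc x) =
          (e * x 0) ^ 3 + x 1 ^ 3 + x 2 ^ 3 - 3 * (e * x 0) * (x 1 * x 2) := by
        linear_combination (e * x 0) ^ 2 * sum0 (x 1) (x 2) + (e * x 0) * pair0 (x 1) (x 2) + prod0 (x 1) (x 2)
      have hlhs : (e * x 0 + qc x) / (2 * y₀) * ((e * x 0 + qa x) * (-(e * x 0) - qb x))
          - (-3 * e * x 0 / (2 * l)) ^ 3
          = -((e * x 0 + qa x) * (e * x 0 + qb x) * (e * x 0 + qc x) - s * (e * x 0) ^ 3) / (2 * y₀) := by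
        rw [hs]; field_simp; ring
      rw [hlhs, expand]
      field_simp
      linear_combination (-1 : K) * x 0 ^ 3 * he'

theorem hesse_smooth_aux {k a b c : K} (hk : k ^ 3 ≠ 1) (ha : a ^ 2 = k * (b * c))
    (hb : b ^ 2 = k * (a * c)) (hc : c ^ 2 = k * (a * b)) : a = 0 ∧ b = 0 ∧ c = 0 := by
  have h : (a * b * c) ^ 2 * (1 - k ^ 3) = 0 := by
    linear_combination (b ^ 2 * c ^ 2) * ha + k * (b * c) * c ^ 2 * hb + k ^ 2 * a * b * c ^ 2 * hc
  simp [sub_eq_zero, Ne.symm hk] at h
  rcases h with (rfl | rfl) | rfl <;> simp_all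

theorem hesse_det {k a b c : K} (hk : k ^ 3 ≠ 1) (h : a ^ 3 + b ^ 3 + c ^ 3 = 3 * k * (a * b * c))
    (hd : (!![2 * a, -k * c, -k * b; -k * c, 2 * b, -k * a; -k * b, -k * a, 2 * c]).det = 0) :
    a = 0 ∨ b = 0 ∨ c = 0 := by
  rw [Matrix.det_fin_three] at hd
  simp at hd
  have : (1 - k ^ 3) * (a * b * c) = 0 := by linear_combination (1 / 8 : K) * hd + (k ^ 2 / 4) * h
  simpa [sub_eq_zero, Ne.symm hk, or_assoc] using this

end Plane

end Groth.CubicGeom
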