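import Groth.Agent.CubicGeom.ThreeLines
import Groth.Agent.CubicGeom.PlaneBezout
import Groth.Agent.CubicGeom.Plane

/-!
# Finiteness of the T-points in a tangent plane of a point which is not a T-point
-/

set_option autoImplicit false

namespace Groth.CubicGeom

open MvPolynomial

variable {K : Type*} [Field K]

/-- Polynomial functions. -/
noncomputable def polyFuns (K : Type*) [Field K] (n : ℕ) : Subalgebra K ((Fin n → K) → K) :=
  (MvPolynomial.aeval fun (i : Fin n) (v : Fin n → K) => v i).range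

theorem mem_polyFuns_iff {n : ℕ} {f : (Fin n → K) → K} :
    f ∈ polyFuns K n ↔ ∃ p : MvPolynomial (Fin n) K, ∀ v, eval v p = f v := by
  have key : ∀ (p : MvPolynomial (Fin n) K) v,
      MvPolynomial.aeval (fun (i : Fin n) (v : Fin n → K) => v i) p v = eval v p := by
    intro p v
    induction p using MvPolynomial.induction_on with
    | C r => simp
    | add p q hp hq => simp [hp, hq]
    | mul_X p i hp => simp [hp]
  constructor
  · rintro ⟨p, hp⟩
    exact ⟨p, fun v => (key p v).symm.trans (congrFun hp v)⟩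
  · rintro ⟨p, hp⟩
    exact ⟨p, funext fun v => (key p v).trans (hp v)⟩

theorem coord_mem_polyFuns {n : ℕ} (i : Fin n) : (fun v : Fin n → K => v i) ∈ polyFuns K n :=
  mem_polyFuns_iff.2 ⟨X i, fun v => by simp⟩

theorem const_mem_polyFuns {n : ℕ} (c : K) : (fun _ : Fin n → K => c) ∈ polyFuns K n :=
  mem_polyFuns_iff.2 ⟨C c, fun v => by simp⟩

/-- The linear map of a form of degree one. -/
theorem exists_linearMap_of_homogeneous_one {n : ℕ} {L : MvPolynomial (Fin n) K} (hL : L.IsHomogeneous 1) :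
    ∃ M : (Fin n → K) →ₗ[K] K, ∀ x, M x = eval x L := by
  refine ⟨∑ i, eval 0 (pderiv i L) • LinearMap.proj i, fun x => ?_⟩
  have h := eval_euler hL x
  simp only [Nat.cast_one, one_mul] at h
  rw [← h, LinearMap.sum_apply]
  refine Finset.sum_congr rfl fun i _ => ?_
  obtain ⟨c, hc⟩ : ∃ c, pderiv i L = C c :=
    ⟨_, (totalDegree_eq_zero_iff_eq_C).1 (Nat.le_zero.1 (by simpa using (hL.pderiv (i := i)).totalDegree_le))⟩
  simp [hc, mul_comm]

/-- Every factor of a singular plane cubic which is no product of three lines passes through the singular point. -/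
theorem eval_eq_zero_of_dvd [CharZero K] [IsAlgClosed K] {f d : MvPolynomial (Fin 3) K}
    (hf : f.IsHomogeneous 3) {v₀ : Fin 3 → K} (hv₀ : v₀ = Pi.single 0 1) (hfv : eval v₀ f = 0)
    (hsing : ∀ i, eval v₀ (pderiv i f) = 0)
    (hprod : ¬ ∃ M₁ M₂ M₃ : (Fin 3 → K) →ₗ[K] K, ∀ x, eval x f = M₁ x * M₂ x * M₃ x)
    (hd : d ∣ f) (hu : ¬ IsUnit d) : eval v₀ d = 0 := by
  by_contra hne
  obtain ⟨c, rfl⟩ := hd
  have hf0 : d * c ≠ 0 := fun h => hprod ⟨0, 0, 0, fun x => by rw [h]; simp⟩
  obtain ⟨i, j, hij, hdi, hcj⟩ := exists_isHomogeneous_of_mul hf hf0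
  have hc0 : c ≠ 0 := right_ne_zero_of_mul hf0
  have hcv : eval v₀ c = 0 := by simpa [hne] using hfv
  have hcs : ∀ k, eval v₀ (pderiv k c) = 0 := fun k => by
    have := hsing k
    simpa [Derivation.leibniz, hcv, hne] using this
  have hi : i ≠ 0 := by
    rintro rfl
    obtain ⟨r, rfl⟩ : ∃ r, d = C r :=
      ⟨_, (totalDegree_eq_zero_iff_eq_C).1 (Nat.le_zero.1 hdi.totalDegree_le)⟩
    exact hu ((IsUnit.mk0 r fun h => hne (by simp [h])).map C)
  rcases (show j = 0 ∨ j = 1 ∨ j = 2 by omega) with rfl | rfl | rfl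
  · obtain ⟨r, rfl⟩ : ∃ r, c = C r :=
      ⟨_, (totalDegree_eq_zero_iff_eq_C).1 (Nat.le_zero.1 hcj.totalDegree_le)⟩
    exact hc0 (by simpa using hcv)
  · refine hc0 (MvPolynomial.funext fun x => ?_)
    have h := eval_euler hcj x
    simp only [Nat.cast_one, one_mul] at h
    rw [map_zero, ← h]
    refine Finset.sum_eq_zero fun k _ => ?_
    obtain ⟨r, hr⟩ : ∃ r, pderiv k c = C r :=
      ⟨_, (totalDegree_eq_zero_iff_eq_C).1 (Nat.le_zero.1 (by simpa using (hcj.pderiv (i := k)).totalDegree_le))⟩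
    have := hcs k
    rw [hr, eval_C] at this
    simp [hr, this]
  · obtain rfl : i = 1 := by omega
    obtain ⟨M, hM⟩ := exists_linearMap_of_homogeneous_one hdi
    choose N hN using fun k => exists_linearMap_of_homogeneous_one (hcj.pderiv (i := k))
    let q : Fin 3 → Fin 3 → K := fun k l => eval 0 (pderiv l (pderiv k c))
    have hq : ∀ x k, eval x (pderiv k c) = x 0 * q k 0 + x 1 * q k 1 + x 2 * q k 2 := fun x k => by
      have h := eval_euler (hcj.pderiv (i := k)) x
      simp only [show 2 - 1 = 1 from rfl, Nat.cast_one, one_mul] at h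
      rw [← h, Fin.sum_univ_three]
      have hc : ∀ l, eval x (pderiv l (pderiv k c)) = q k l := fun l => by
        obtain ⟨r, hr⟩ : ∃ r, pderiv l (pderiv k c) = C r :=
          ⟨_, (totalDegree_eq_zero_iff_eq_C).1
            (Nat.le_zero.1 (by simpa using ((hcj.pderiv (i := k)).pderiv (i := l)).totalDegree_le))⟩
        simp [q, hr]
      simp [hc]
    have hk0 : ∀ k, q k 0 = 0 := fun k => by
      have := hcs k
      rw [hq, hv₀] at this
      simpa using this
    have hsym : ∀ k l, q k l = q l k := fun k l => by simp [q, pderiv_comm]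
    have hcx : ∀ x, eval x c = (q 1 1 / 2) * x 1 ^ 2 + q 1 2 * (x 1 * x 2) + (q 2 2 / 2) * x 2 ^ 2 := fun x => by
      have h := eval_euler hcj x
      rw [Fin.sum_univ_three, hq, hq, hq, hsym 0 1, hsym 0 2, hk0, hk0, hk0, hsym 2 1] at h
      push_cast at h
      linear_combination -(1 / 2 : K) * h
    obtain ⟨p, r, p', r', hfac⟩ := binary_quadratic_factor (q 1 1 / 2) (q 1 2) (q 2 2 / 2)
    exact hprod ⟨M, p • LinearMap.proj 1 + r • LinearMap.proj 2, p' • LinearMap.proj 1 + r' • LinearMap.proj 2,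
      fun x => by simp [hM, hcx, hfac, mul_assoc]⟩

/-- Polarisation commutes with linear substitution. -/
theorem ofPoly_subst_tri [CharZero K] {n m : ℕ} {F : MvPolynomial (Fin n) K} (hF : F.IsHomogeneous 3)
    (A : Matrix (Fin n) (Fin m) K) (hs : (subst A F).IsHomogeneous 3) (x y z : Fin m → K) :
    (ofPoly (subst A F)).tri x y z = (ofPoly F).tri (A.mulVec x) (A.mulVec y) (A.mulVec z) := by
  refine mul_left_cancel₀ (b := (ofPoly (subst A F)).tri x y z) (by norm_num : (6 : K) ≠ 0) ?_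
  rw [Form.six_mul_tri, Form.six_mul_tri]
  simp only [ofPoly_self hs, ofPoly_self hF, eval_subst, Matrix.mulVec_add]

set_option maxHeartbeats 1600000 in
/-- The T-points on a tangent plane at a point which is not a T-point lie on finitely many lines. -/
theorem finite_tpoints [IsAlgClosed K] [CharZero K] {F : MvPolynomial (Fin 4) K} (hF : F.IsHomogeneous 3)
    {a : Fin 4 → K} (ha : a ≠ 0) (haF : eval a F = 0) {r : Fin 4 → K}
    (hr : (ofPoly F).tri a a r ≠ 0)
    (hnot : ¬ ∃ M₁ M₂ M₃ : (Fin 4 → K) →ₗ[K] K, ∀ x, (ofPoly F).tri a a x = 0 →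
      (ofPoly F).tri x x x = M₁ x * M₂ x * M₃ x)
    (tp : (Fin 4 → K) → Prop)
    (htp : ∀ b, tp b → eval b F = 0 ∧ ∃ M₁ M₂ M₃ : (Fin 4 → K) →ₗ[K] K, ∀ x, (ofPoly F).tri b b x = 0 →
      (ofPoly F).tri x x x = M₁ x * M₂ x * M₃ x) :
    Set.Finite {U : Submodule K (Fin 4 → K) | Module.finrank K ↥U = 1 ∧
      U ≤ LinearMap.ker ((ofPoly F).tri a a) ∧ ∀ b ∈ U, b ≠ 0 → tp b} := by
  classical
  set T := ofPoly F with hT
  set H := LinearMap.ker (T.tri a a) with hH
  have hH3 : Module.finrank K ↥H = 3 := by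
    have := Form.finrank_ker_of_ne_zero (φ := T.tri a a) (fun e => hr (by simp [e]))
    simp at this
    omega
  have haaa : T.tri a a a = 0 := (ofPoly_self_eq_zero hF a).2 haF
  obtain ⟨e, hli, he0, y, y', hne⟩ := Form.exists_hess_mul_ne (T := T.comap H.subtype) hH3
    (a := ⟨a, haaa⟩) (fun h => ha (congrArg Subtype.val h)) (fun x => x.2) (by
      rintro ⟨M₁, M₂, M₃, h⟩
      obtain ⟨N₁, hN₁⟩ := LinearMap.exists_extend M₁
      obtain ⟨N₂, hN₂⟩ := LinearMap.exists_extend M₂
      obtain ⟨N₃, hN₃⟩ := LinearMap.exists_extend M₃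
      refine hnot ⟨N₁, N₂, N₃, fun x hx => ?_⟩
      have := h ⟨x, hx⟩
      rw [← hN₁, ← hN₂, ← hN₃] at this
      exact this)
  set E : Fin 3 → (Fin 4 → K) := fun i => (e i).1 with hE
  have hE0 : E 0 = a := by simp [hE, he0]
  have hliE : LinearIndependent K E := hli.map' H.subtype H.ker_subtype
  let Φ : (Fin 4 → K) → Fin 3 → (Fin 4 → K) := fun b i => T.tri b b r • E i - T.tri b b (E i) • r
  let G : (Fin 4 → K) → K := fun b =>
    T.hess (Φ b) (Form.pt (Φ b) y) * T.tri (Form.pt (Φ b) y') (Form.pt (Φ b) y') (Form.pt (Φ b) y') -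
      T.hess (Φ b) (Form.pt (Φ b) y') * T.tri (Form.pt (Φ b) y) (Form.pt (Φ b) y) (Form.pt (Φ b) y)
  have hGzero : ∀ b, (T.tri b b r = 0 ∨ tp b) → G b = 0 := by
    intro b hb
    by_cases h0 : T.tri b b r = 0
    · have hΦ : ∀ i, Φ b i = (-T.tri b b (E i)) • r := fun i => by simp [Φ, h0]
      have hz : ∀ z : Fin 3 → K, T.hess (Φ b) (Form.pt (Φ b) z) = 0 := fun z => by
        simp only [Form.hess, Matrix.det_fin_three, Matrix.of_apply, hΦ, map_smul, LinearMap.smul_apply,
          smul_eq_mul]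
        ring
      simp [G, hz]
    · obtain ⟨M₁, M₂, M₃, hM⟩ := (htp b (hb.resolve_left h0)).2
      refine sub_eq_zero.2 (Form.hess_mul_eq_of_product (Φ b) M₁ M₂ M₃ (fun z => hM _ ?_) y y')
      simp [Form.pt, Φ]
      ring
  obtain ⟨g, hg⟩ := mem_polyFuns_iff.1 (show (fun v : Fin 3 → K => G (Form.pt E v)) ∈ polyFuns K 3 by
    have hvec : ∀ k, (fun v : Fin 3 → K => Form.pt E v k) ∈ polyFuns K 3 := fun k => by
      have : (fun v : Fin 3 → K => Form.pt E v k) =
          (fun v => v 0) * (fun _ => E 0 k) + (fun v => v 1) * (fun _ => E 1 k) + (fun v => v 2) * (fun _ => E 2 k) := by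
        funext v; simp [Form.pt]
      rw [this]
      exact add_mem (add_mem (mul_mem (coord_mem_polyFuns 0) (const_mem_polyFuns _))
        (mul_mem (coord_mem_polyFuns 1) (const_mem_polyFuns _))) (mul_mem (coord_mem_polyFuns 2) (const_mem_polyFuns _))
    have htri : ∀ u w z : (Fin 3 → K) → (Fin 4 → K), (∀ k, (fun v => u v k) ∈ polyFuns K 3) →
        (∀ k, (fun v => w v k) ∈ polyFuns K 3) → (∀ k, (fun v => z v k) ∈ polyFuns K 3) →
        (fun v => T.tri (u v) (w v) (z v)) ∈ polyFuns K 3 := by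
      intro u w z hu hw hz
      have : (fun v => T.tri (u v) (w v) (z v)) = ∑ i, ∑ j, ∑ l,
          (fun _ : Fin 3 → K => coeff3 F i j l) * ((fun v => u v i) * ((fun v => w v j) * fun v => z v l)) := by
        funext v; simp [hT, ofPoly_apply, Finset.sum_apply]
      rw [this]
      exact sum_mem fun i _ => sum_mem fun j _ => sum_mem fun l _ =>
        mul_mem (const_mem_polyFuns _) (mul_mem (hu i) (mul_mem (hw j) (hz l)))
    have hc : ∀ c : Fin 4 → K, ∀ k, (fun _ : Fin 3 → K => c k) ∈ polyFuns K 3 := fun c k => const_mem_polyFuns _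
    have hΦ : ∀ i k, (fun v : Fin 3 → K => Φ (Form.pt E v) i k) ∈ polyFuns K 3 := fun i k => by
      have : (fun v : Fin 3 → K => Φ (Form.pt E v) i k) =
          (fun v => T.tri (Form.pt E v) (Form.pt E v) r) * (fun _ => E i k) -
            (fun v => T.tri (Form.pt E v) (Form.pt E v) (E i)) * (fun _ => r k) := by
        funext v; simp [Φ]
      rw [this]
      exact sub_mem (mul_mem (htri _ _ _ hvec hvec (hc r)) (const_mem_polyFuns _))
        (mul_mem (htri _ _ _ hvec hvec (hc (E i))) (const_mem_polyFuns _))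
    have hpt : ∀ (z : Fin 3 → K) k, (fun v : Fin 3 → K => Form.pt (Φ (Form.pt E v)) z k) ∈ polyFuns K 3 := fun z k => by
      have : (fun v : Fin 3 → K => Form.pt (Φ (Form.pt E v)) z k) =
          (fun _ => z 0) * (fun v => Φ (Form.pt E v) 0 k) + (fun _ => z 1) * (fun v => Φ (Form.pt E v) 1 k) +
            (fun _ => z 2) * (fun v => Φ (Form.pt E v) 2 k) := by
        funext v; simp [Form.pt]
      rw [this]
      exact add_mem (add_mem (mul_mem (const_mem_polyFuns _) (hΦ 0 k)) (mul_mem (const_mem_polyFuns _) (hΦ 1 k)))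
        (mul_mem (const_mem_polyFuns _) (hΦ 2 k))
    have hhess : ∀ z : Fin 3 → K, (fun v => T.hess (Φ (Form.pt E v)) (Form.pt (Φ (Form.pt E v)) z)) ∈ polyFuns K 3 := by
      intro z
      let M : Fin 3 → Fin 3 → (Fin 3 → K) → K := fun i j v =>
        T.tri (Form.pt (Φ (Form.pt E v)) z) (Φ (Form.pt E v) i) (Φ (Form.pt E v) j)
      have hM : ∀ i j, M i j ∈ polyFuns K 3 := fun i j => htri _ _ _ (hpt z) (hΦ i) (hΦ j)
      have : (fun v => T.hess (Φ (Form.pt E v)) (Form.pt (Φ (Form.pt E v)) z)) =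
          M 0 0 * M 1 1 * M 2 2 - M 0 0 * M 1 2 * M 2 1 - M 0 1 * M 1 0 * M 2 2 + M 0 1 * M 1 2 * M 2 0
            + M 0 2 * M 1 0 * M 2 1 - M 0 2 * M 1 1 * M 2 0 := by
        funext v; simp [M, Form.hess, Matrix.det_fin_three]
      rw [this]
      refine sub_mem (add_mem (add_mem (sub_mem (sub_mem ?_ ?_) ?_) ?_) ?_) ?_ <;>
        exact mul_mem (mul_mem (hM _ _) (hM _ _)) (hM _ _)
    exact sub_mem (mul_mem (hhess y) (htri _ _ _ (hpt y') (hpt y') (hpt y')))
      (mul_mem (hhess y') (htri _ _ _ (hpt y) (hpt y) (hpt y))))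
  let A : Matrix (Fin 4) (Fin 3) K := Matrix.of fun i j => E j i
  have hA : ∀ v, A.mulVec v = Form.pt E v := fun v => by
    ext i; simp [A, Matrix.mulVec, dotProduct, Fin.sum_univ_three, Form.pt, mul_comm]
  set f := subst A F with hf
  have hfeval : ∀ v, eval v f = eval (Form.pt E v) F := fun v => by rw [hf, eval_subst, hA]
  have hfhom : f.IsHomogeneous 3 := by
    have := hF.eval₂ (MvPolynomial.C : K →+* MvPolynomial (Fin 3) K) (fun i => ∑ j, C (A i j) * X j)
      (fun r => isHomogeneous_C _ r) (n := 1) (fun i => IsHomogeneous.sum _ _ _ fun j _ => by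
        simpa using (isHomogeneous_C _ (A i j)).mul (isHomogeneous_X K j))
    rw [hf, subst, aeval_def]
    exact this
  have hfT : ∀ v, T.tri (Form.pt E v) (Form.pt E v) (Form.pt E v) = 6 * eval v f := fun v => by
    rw [hfeval, hT, ofPoly_self hF]
  have hrel : IsRelPrime f g := by
    intro d hd1 hd2
    by_contra hu
    set v₀ : Fin 3 → K := Pi.single 0 1 with hv₀
    have hpt : Form.pt E v₀ = a := by simp [Form.pt, hv₀, hE0]
    have hga : eval v₀ g ≠ 0 := by
      rw [hg]
      show G (Form.pt E v₀) ≠ 0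
      rw [hpt]
      set c := T.tri a a r
      have hΦa : ∀ i, Φ a i = c • E i := fun i => by
        have : T.tri a a (E i) = 0 := (e i).2
        simp [Φ, c, this]
      have hp : ∀ z : Fin 3 → K, Form.pt (Φ a) z = c • Form.pt E z := fun z => by simp [Form.pt, hΦa]; module
      have hh : ∀ z : Fin 3 → K, T.hess (Φ a) (Form.pt (Φ a) z) = c ^ 9 * T.hess E (Form.pt E z) := fun z => by
        simp only [Form.hess, Matrix.det_fin_three, Matrix.of_apply, hΦa, hp, map_smul, LinearMap.smul_apply,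
          smul_eq_mul]
        ring
      simp only [G]
      rw [hh, hh, hp, hp]
      simp only [map_smul, LinearMap.smul_apply, smul_eq_mul]
      intro h0
      apply hne
      have hval : ∀ z : Fin 3 → K, (H.subtype (Form.pt e z)) = Form.pt E z := fun z => by simp [Form.pt, hE]
      have hc : c ^ 12 ≠ 0 := pow_ne_zero _ hr
      have h12 : c ^ 12 * (T.hess E (Form.pt E y) * T.tri (Form.pt E y') (Form.pt E y') (Form.pt E y') -
          T.hess E (Form.pt E y') * T.tri (Form.pt E y) (Form.pt E y) (Form.pt E y)) = 0 := by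
        linear_combination h0
      have := sub_eq_zero.1 ((mul_eq_zero.1 h12).resolve_left hc)
      exact this
    refine hga ?_
    obtain ⟨q, hq⟩ := hd2
    rw [hq, map_mul, eval_eq_zero_of_dvd hfhom hv₀ ?hv (fun i => ?hs) ?hp hd1 hu, zero_mul]
    case hv => rw [hfeval, hpt, haF]
    case hs =>
      have h1 := pderiv_eq_ofPoly hfhom v₀ i
      rw [h1]
      have key : ∀ w, (ofPoly f).tri v₀ v₀ w = T.tri (Form.pt E v₀) (Form.pt E v₀) (Form.pt E w) := fun w => by
        rw [hf, ofPoly_subst_tri hF A hfhom, hA, hA, hT]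
      rw [key, hpt]
      have : Form.pt E (Pi.single i (1 : K)) ∈ H :=
        H.add_mem (H.add_mem (H.smul_mem _ (e 0).2) (H.smul_mem _ (e 1).2)) (H.smul_mem _ (e 2).2)
      rw [LinearMap.mem_ker.1 this, zero_div]
    case hp =>
      rintro ⟨M₁, M₂, M₃, hM⟩
      let B := basisOfLinearIndependentOfCardEqFinrank hli (by simp [hH3])
      obtain ⟨N, hN⟩ := LinearMap.exists_extend (LinearMap.pi fun i => B.coord i : ↥H →ₗ[K] (Fin 3 → K))
      refine hnot ⟨(6 : K) • (M₁ ∘ₗ N), M₂ ∘ₗ N, M₃ ∘ₗ N, fun x hx => ?_⟩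
      have hNx : Form.pt E (N x) = x := by
        have hN' : N x = fun i => B.coord i ⟨x, hx⟩ := LinearMap.congr_fun hN ⟨x, hx⟩
        have := congrArg Subtype.val (B.sum_repr ⟨x, hx⟩)
        rw [Fin.sum_univ_three] at this
        simpa [Form.pt, hN', hE, B] using this
      conv_lhs => rw [← hNx]
      rw [hfT, hM]
      simp
      ring
  have hf0 : f ≠ 0 := fun h => hnot ⟨0, 0, 0, fun x hx => by
    obtain ⟨c, hc⟩ : ∃ c : Fin 3 → K, Form.pt E c = x := by
      let B := basisOfLinearIndependentOfCardEqFinrank hli (by simp [hH3])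
      refine ⟨fun i => B.coord i ⟨x, hx⟩, ?_⟩
      have := congrArg Subtype.val (B.sum_repr ⟨x, hx⟩)
      rw [Fin.sum_univ_three] at this
      simpa [Form.pt, hE, B] using this
    rw [← hc, hfT, h]; simp⟩
  let L : (Fin 3 → K) →ₗ[K] (Fin 4 → K) := lin3 (E 0) (E 1) (E 2)
  have hL : ∀ v, L v = Form.pt E v := fun v => rfl
  have hLinj : Function.Injective L := by
    rw [← LinearMap.ker_eq_bot, LinearMap.ker_eq_bot']
    intro v hv
    funext i
    exact Fintype.linearIndependent_iff.1 hliE v (by rw [Fin.sum_univ_three, ← hv]; rfl) i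
  have hrange : LinearMap.range L = H := by
    refine Submodule.eq_of_le_of_finrank_le ?_ ?_
    · rintro _ ⟨v, rfl⟩
      exact H.add_mem (H.add_mem (H.smul_mem _ (e 0).2) (H.smul_mem _ (e 1).2)) (H.smul_mem _ (e 2).2)
    · rw [LinearMap.finrank_range_of_inj hLinj, hH3, Module.finrank_fin_fun]
  refine ((finite_common_zero_lines f g hf0 hrel).image (Submodule.map L)).subset ?_
  rintro U ⟨hU, hUH, hUb⟩
  have hmap : (U.comap L).map L = U := Submodule.map_comap_eq_self (hrange.symm ▸ hUH)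
  refine ⟨U.comap L, ⟨?_, fun v hv => ?_⟩, hmap⟩
  · rw [(Submodule.equivMapOfInjective L hLinj (U.comap L)).finrank_eq, hmap, hU]
  · rw [Submodule.mem_comap, hL] at hv
    rw [hfeval, hg]
    show _ ∧ G (Form.pt E v) = 0
    by_cases hb : Form.pt E v = 0
    · rw [hb]
      exact ⟨by rw [eval_zero, MvPolynomial.constantCoeff_eq, hF.coeff_eq_zero (d := 0) (by simp)],
        hGzero 0 (.inl (by simp))⟩
    · exact ⟨(htp _ (hUb _ hv hb)).1, hGzero _ (.inr (hUb _ hv hb))⟩

end Groth.CubicGeom
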