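import Groth.Agent.CubicGeom.Tools

/-!
# Products of three linear forms and the Hessian

A cubic form on a three-dimensional space which is a product of three linear forms is proportional
to its Hessian; a singular one which is no such product is not, in a suitable basis.
-/

set_option autoImplicit false

namespace Groth.CubicGeom.Form

variable {K V : Type*} [Field K] [AddCommGroup V] [Module K V] (T : Form K V)

/-- The Hessian of the form in the parametrisation `e`. -/
def hess (e : Fin 3 → V) (x : V) : K := (Matrix.of fun i j => T.tri x (e i) (e j)).det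

/-- The value of the cubic at the point with coordinates `y`. -/
abbrev pt (e : Fin 3 → V) (y : Fin 3 → K) : V := y 0 • e 0 + y 1 • e 1 + y 2 • e 2

variable {T}

/-- Polarisation. -/
theorem six_mul_tri (a b c : V) : 6 * T.tri a b c =
    T.tri (a + b + c) (a + b + c) (a + b + c) - T.tri (a + b) (a + b) (a + b) - T.tri (a + c) (a + c) (a + c)
      - T.tri (b + c) (b + c) (b + c) + T.tri a a a + T.tri b b b + T.tri c c c := by
  simp only [map_add, LinearMap.add_apply]
  linear_combination (T.symm23 a b c) + (T.symm12 a b c) + (T.rot a b c) + (T.symm13 a b c)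
    + (T.rot c a b).symm

/-- A product of three linear forms is proportional to its Hessian. -/
theorem hess_mul_eq_of_product [CharZero K] (e : Fin 3 → V) (M₁ M₂ M₃ : V →ₗ[K] K)
    (h : ∀ y : Fin 3 → K, T.tri (pt e y) (pt e y) (pt e y) = M₁ (pt e y) * M₂ (pt e y) * M₃ (pt e y))
    (y y' : Fin 3 → K) :
    T.hess e (pt e y) * T.tri (pt e y') (pt e y') (pt e y') =
      T.hess e (pt e y') * T.tri (pt e y) (pt e y) (pt e y) := by
  have key : ∀ a b c : Fin 3 → K, 6 * T.tri (pt e a) (pt e b) (pt e c) =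
      M₁ (pt e a) * M₂ (pt e b) * M₃ (pt e c) + M₁ (pt e a) * M₂ (pt e c) * M₃ (pt e b) +
      M₁ (pt e b) * M₂ (pt e a) * M₃ (pt e c) + M₁ (pt e b) * M₂ (pt e c) * M₃ (pt e a) +
      M₁ (pt e c) * M₂ (pt e a) * M₃ (pt e b) + M₁ (pt e c) * M₂ (pt e b) * M₃ (pt e a) := by
    intro a b c
    have hadd : ∀ p q : Fin 3 → K, pt e (p + q) = pt e p + pt e q := fun p q => by simp [pt]; module
    rw [six_mul_tri (pt e a) (pt e b) (pt e c), ← hadd a b, ← hadd a c, ← hadd b c, ← hadd (a + b) c,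
      h, h, h, h, h, h, h, hadd (a + b) c, hadd a b, hadd a c, hadd b c]
    simp only [map_add]
    ring
  obtain ⟨α, hα⟩ : ∃ α : Fin 3 → K, ∀ y : Fin 3 → K, M₁ (pt e y) = y 0 * α 0 + y 1 * α 1 + y 2 * α 2 :=
    ⟨fun i => M₁ (e i), fun y => by simp [pt]⟩
  obtain ⟨β, hβ⟩ : ∃ β : Fin 3 → K, ∀ y : Fin 3 → K, M₂ (pt e y) = y 0 * β 0 + y 1 * β 1 + y 2 * β 2 :=
    ⟨fun i => M₂ (e i), fun y => by simp [pt]⟩
  obtain ⟨γ, hγ⟩ : ∃ γ : Fin 3 → K, ∀ y : Fin 3 → K, M₃ (pt e y) = y 0 * γ 0 + y 1 * γ 1 + y 2 * γ 2 :=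
    ⟨fun i => M₃ (e i), fun y => by simp [pt]⟩
  simp only [hα, hβ, hγ] at key h
  have hM : ∀ z (i j : Fin 3), T.tri (pt e z) (e i) (e j) =
      ((z 0 * α 0 + z 1 * α 1 + z 2 * α 2) * (β i * γ j + β j * γ i) +
        (z 0 * β 0 + z 1 * β 1 + z 2 * β 2) * (α i * γ j + α j * γ i) +
        (z 0 * γ 0 + z 1 * γ 1 + z 2 * γ 2) * (α i * β j + α j * β i)) / 6 := by
    intro z i j
    have := key z (Pi.single i 1) (Pi.single j 1)
    rw [eq_div_iff (by norm_num : (6 : K) ≠ 0)]
    fin_cases i <;> fin_cases j <;> simp [pt] at this ⊢ <;> linear_combination this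
  let L : Matrix (Fin 3) (Fin 3) K := Matrix.of ![α, β, γ]
  have hH : ∀ z : Fin 3 → K, T.hess e (pt e z) = L.det ^ 2 *
      ((z 0 * α 0 + z 1 * α 1 + z 2 * α 2) * (z 0 * β 0 + z 1 * β 1 + z 2 * β 2) *
        (z 0 * γ 0 + z 1 * γ 1 + z 2 * γ 2)) / 108 := by
    intro z
    set A := z 0 * α 0 + z 1 * α 1 + z 2 * α 2 with hA
    set B := z 0 * β 0 + z 1 * β 1 + z 2 * β 2 with hB
    set C := z 0 * γ 0 + z 1 * γ 1 + z 2 * γ 2 with hC
    let N : Matrix (Fin 3) (Fin 3) K := !![0, C / 6, B / 6; C / 6, 0, A / 6; B / 6, A / 6, 0]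
    have hN : (Matrix.of fun i j => T.tri (pt e z) (e i) (e j)) = L.transpose * N * L := by
      ext i j
      rw [Matrix.of_apply, hM, ← hA, ← hB, ← hC]
      simp [L, N, Matrix.mul_apply, Matrix.transpose_apply, Fin.sum_univ_three]
      ring
    rw [hess, hN, Matrix.det_mul, Matrix.det_mul, Matrix.det_transpose, Matrix.det_fin_three N]
    simp [N]
    ring
  rw [h, h, hH, hH]
  ring

/-- A plane cubic with a singular point which is not a product of three linear forms is, in a suitable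
basis, not proportional to its Hessian. -/
theorem exists_hess_mul_ne [CharZero K] [IsAlgClosed K] [FiniteDimensional K V]
    (hV : Module.finrank K V = 3) {a : V} (ha : a ≠ 0) (haa : ∀ x, T.tri a a x = 0)
    (hT : ¬ ∃ M₁ M₂ M₃ : V →ₗ[K] K, ∀ x, T.tri x x x = M₁ x * M₂ x * M₃ x) :
    ∃ e : Fin 3 → V, LinearIndependent K e ∧ e 0 = a ∧ ∃ y y' : Fin 3 → K,
      T.hess e (pt e y) * T.tri (pt e y') (pt e y') (pt e y') ≠
        T.hess e (pt e y') * T.tri (pt e y) (pt e y) (pt e y) := by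
  classical
  obtain ⟨ψ, hψ⟩ : ∃ ψ : V →ₗ[K] K, ψ a = 1 := Module.Projective.exists_dual_eq_one K ha
  have hW : Module.finrank K ↥(LinearMap.ker ψ) = 2 := by
    have := finrank_ker_of_ne_zero (φ := ψ) (fun e => by simp [e] at hψ)
    omega
  let b := Module.finBasisOfFinrankEq K ↥(LinearMap.ker ψ) hW
  have hψb : ∀ i, ψ (b i).1 = 0 := fun i => (b i).2
  -- coordinates
  have mk : ∀ (p q r s : K), p * s - q * r ≠ 0 → ∀ t₁ t₂ : K,
      LinearIndependent K ![a, p • (b 0).1 + q • (b 1).1 + t₁ • a, r • (b 0).1 + s • (b 1).1 + t₂ • a] := by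
    intro p q r s hdet t₁ t₂
    rw [Fintype.linearIndependent_iff]
    intro g hg
    rw [Fin.sum_univ_three] at hg
    replace hg : g 0 • a + g 1 • (p • (b 0).1 + q • (b 1).1 + t₁ • a) + g 2 • (r • (b 0).1 + s • (b 1).1 + t₂ • a) = 0 := hg
    have h0 := congrArg ψ hg
    simp [hψ, hψb] at h0
    have hW0 : (g 1 * p + g 2 * r) • b 0 + (g 1 * q + g 2 * s) • b 1 = 0 := Subtype.ext (by
      have : (g 1 * p + g 2 * r) • (b 0).1 + (g 1 * q + g 2 * s) • (b 1).1 =
          (g 0 • a + g 1 • (p • (b 0).1 + q • (b 1).1 + t₁ • a) + g 2 • (r • (b 0).1 + s • (b 1).1 + t₂ • a))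
            - (g 0 + g 1 * t₁ + g 2 * t₂) • a := by module
      rw [hg, h0, zero_smul, sub_zero] at this
      simpa using this)
    have c0 := congrArg (b.coord 0) hW0
    have c1 := congrArg (b.coord 1) hW0
    simp [Finsupp.single_apply] at c0 c1
    have g1 : g 1 = 0 := mul_left_cancel₀ hdet (by linear_combination s * c0 - r * c1)
    have g2 : g 2 = 0 := mul_left_cancel₀ hdet (by linear_combination p * c1 - q * c0)
    intro i
    fin_cases i
    · simpa [g1, g2] using h0
    · exact g1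
    · exact g2
  -- a product decomposition contradicts `hT`
  have prod : ∀ (e : Fin 3 → V), LinearIndependent K e → ∀ p q p' q' p'' q'' u v w : K,
      (∀ y : Fin 3 → K, T.tri (pt e y) (pt e y) (pt e y) =
        (u * y 0 + p * y 1 + q * y 2) * (v * y 0 + p' * y 1 + q' * y 2) * (w * y 0 + p'' * y 1 + q'' * y 2)) →
      False := by
    intro e he p q p' q' p'' q'' u v w h
    let B := basisOfLinearIndependentOfCardEqFinrank he (by simp [hV])
    refine hT ⟨u • B.coord 0 + p • B.coord 1 + q • B.coord 2, v • B.coord 0 + p' • B.coord 1 + q' • B.coord 2,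
      w • B.coord 0 + p'' • B.coord 1 + q'' • B.coord 2, fun x => ?_⟩
    have hx : pt e (fun i => B.coord i x) = x := by
      conv_rhs => rw [← B.sum_repr x]
      simp [pt, Fin.sum_univ_three, B]
    have := h (fun i => B.coord i x)
    rw [hx] at this
    simpa using this
  obtain ⟨p, q, p', q', hfac⟩ := binary_quadratic_factor (T.tri a (b 0).1 (b 0).1)
    (2 * T.tri a (b 0).1 (b 1).1) (T.tri a (b 1).1 (b 1).1)
  have haxa : ∀ x, T.tri a x a = 0 := fun x => (T.symm23 a x a).trans (haa x)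
  have hq : ∀ s t : K, T.tri a (s • (b 0).1 + t • (b 1).1) (s • (b 0).1 + t • (b 1).1) =
      (p * s + q * t) * (p' * s + q' * t) := fun s t => by
    rw [← hfac]
    simp only [map_add, map_smul, LinearMap.add_apply, LinearMap.smul_apply, smul_eq_mul,
      T.symm23 a (b 1).1 (b 0).1]
    ring
  have hq' : ∀ s t s' t' : K, 2 * T.tri a (s • (b 0).1 + t • (b 1).1) (s' • (b 0).1 + t' • (b 1).1) =
      (p * s + q * t) * (p' * s' + q' * t') + (p * s' + q * t') * (p' * s + q' * t) := fun s t s' t' => by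
    have h1 := hq (s + s') (t + t')
    rw [show (s + s') • (b 0).1 + (t + t') • (b 1).1 =
      (s • (b 0).1 + t • (b 1).1) + (s' • (b 0).1 + t' • (b 1).1) by module] at h1
    have h2 := hq s t
    have h3 := hq s' t'
    simp only [map_add, LinearMap.add_apply] at h1
    have hs := T.symm23 a (s • (b 0).1 + t • (b 1).1) (s' • (b 0).1 + t' • (b 1).1)
    simp only [map_add, LinearMap.add_apply] at h2 h3 hs ⊢
    linear_combination h1 - h2 - h3 + hs
  by_cases hd : p * q' - q * p' = 0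
  · by_cases hzero : ∀ s t : K, (p * s + q * t) * (p' * s + q' * t) = 0
    · -- no quadratic part: three lines through `a`
      have hb : ∀ s t s' t' : K, T.tri a (s • (b 0).1 + t • (b 1).1) (s' • (b 0).1 + t' • (b 1).1) = 0 := by
        intro s t s' t'
        have h1 := hq' s t s' t'
        have h2 := hzero (s + s') (t + t')
        have h3 := hzero s t
        have h4 := hzero s' t'
        have : 2 * T.tri a (s • (b 0).1 + t • (b 1).1) (s' • (b 0).1 + t' • (b 1).1) = 0 := by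
          linear_combination h1 + h2 - h3 - h4
        simpa using this
      have hli := mk 1 0 0 1 (by norm_num) 0 0
      obtain ⟨r, r', s, s', t, t', hc⟩ := binary_cubic_factor (T.tri (b 0).1 (b 0).1 (b 0).1)
        (3 * T.tri (b 0).1 (b 0).1 (b 1).1) (3 * T.tri (b 0).1 (b 1).1 (b 1).1) (T.tri (b 1).1 (b 1).1 (b 1).1)
      refine (prod _ hli r r' s s' t t' 0 0 0 fun y => ?_).elim
      rw [pt, T.combine3']
      have b00 := hb 1 0 1 0
      have b01 := hb 1 0 0 1
      have b11 := hb 0 1 0 1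
      simp at b00 b01 b11
      simp [haa, b00, b01, b11]
      linear_combination hc (y 1) (y 2)
    · -- the tangent cone is a double line
      push Not at hzero
      obtain ⟨s₁, t₁, h1⟩ := hzero
      obtain ⟨l₁, hl₁⟩ : ∃ c : K, c ^ 2 * ((p * s₁ + q * t₁) * (p' * s₁ + q' * t₁)) = 1 := by
        obtain ⟨r, hr⟩ := IsAlgClosed.exists_pow_nat_eq ((p * s₁ + q * t₁) * (p' * s₁ + q' * t₁)) two_pos
        refine ⟨r⁻¹, ?_⟩
        have hr0 : r ≠ 0 := fun h => h1 (by rw [← hr, h]; ring)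
        rw [← hr]; field_simp
      obtain ⟨s₂, t₂, h2a, h2b, hdet⟩ : ∃ s₂ t₂ : K, p * s₂ + q * t₂ = 0 ∧ p' * s₂ + q' * t₂ = 0 ∧
          (l₁ * s₁) * t₂ - (l₁ * t₁) * s₂ ≠ 0 := by
        refine ⟨-q, p, by ring, by linear_combination hd, ?_⟩
        intro h
        have : l₁ * (p * s₁ + q * t₁) = 0 := by linear_combination h
        rcases mul_eq_zero.1 this with h' | h'
        · simp [h'] at hl₁
        · exact h1 (by rw [h', zero_mul])
      set u₁ := (l₁ * s₁) • (b 0).1 + (l₁ * t₁) • (b 1).1 with hu₁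
      set u₂ := s₂ • (b 0).1 + t₂ • (b 1).1 with hu₂
      have q11 : T.tri a u₁ u₁ = 1 := by rw [hu₁, hq]; linear_combination hl₁
      have q22 : T.tri a u₂ u₂ = 0 := by rw [hu₂, hq, h2a, zero_mul]
      have q12 : T.tri a u₁ u₂ = 0 := by
        have := hq' (l₁ * s₁) (l₁ * t₁) s₂ t₂
        rw [← hu₁, ← hu₂, h2a, h2b] at this
        simpa using this
      set c₁ := -T.tri u₁ u₁ u₁ / 3
      set c₂ := -T.tri u₁ u₁ u₂
      have hli := mk _ _ _ _ hdet c₁ c₂
      set e : Fin 3 → V := ![a, u₁ + c₁ • a, u₂ + c₂ • a] with he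
      have q21 : T.tri a u₂ u₁ = 0 := by rw [T.symm23, q12]
      have e111 : T.tri (e 1) (e 1) (e 1) = 0 := by
        rw [show e 1 = u₁ + c₁ • a from rfl, T.expand, T.symm13 u₁ u₁ a, T.symm13 u₁ a a, haa, q11, haa]
        ring
      have e112 : T.tri (e 1) (e 1) (e 2) = 0 := by
        simp [e, map_add, map_smul, LinearMap.add_apply, LinearMap.smul_apply, T.symm12 u₁ a, T.symm13 u₁ u₁ a,
          T.symm23 u₁ u₂ a, q12, q11, q21, haa, haxa, c₂, c₁]
      have hcub : ∀ y : Fin 3 → K, T.tri (pt e y) (pt e y) (pt e y) =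
          3 * y 0 * y 1 ^ 2 + 3 * T.tri (e 1) (e 2) (e 2) * y 1 * y 2 ^ 2 + T.tri (e 2) (e 2) (e 2) * y 2 ^ 3 := by
        intro y
        rw [pt, T.combine3', e111, e112]
        simp [e, haa, q11, q12, q21, q22, T.symm23 a _ a]
        ring
      refine ⟨e, hli, rfl, ?_⟩
      have hh : ∀ y : Fin 3 → K, T.hess e (pt e y) =
          -(y 1 ^ 2 * (T.tri (e 1) (e 2) (e 2) * y 1 + T.tri (e 2) (e 2) (e 2) * y 2)) := by
        intro y
        have s00 : ∀ i, T.tri (e i) (e 0) (e 0) = 0 := fun i => by rw [T.symm13]; exact haa _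
        have r01 : T.tri (e 0) (e 1) (e 1) = 1 := by simp [e, q11, haa, T.symm23 a _ a]
        have r02 : T.tri (e 0) (e 1) (e 2) = 0 := by simp [e, q12, haa, T.symm23 a _ a]
        have r03 : T.tri (e 0) (e 2) (e 2) = 0 := by simp [e, q22, haa, T.symm23 a _ a]
        have w1 : T.tri (e 1) (e 0) (e 1) = 1 := by rw [T.symm12, r01]
        have w2 : T.tri (e 1) (e 0) (e 2) = 0 := by rw [T.symm12, r02]
        have w3 : T.tri (e 2) (e 0) (e 1) = 0 := by rw [T.rot, r02]
        have w4 : T.tri (e 2) (e 0) (e 2) = 0 := by rw [T.symm12, r03]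
        have w5 : T.tri (e 1) (e 1) (e 0) = 1 := by rw [T.symm13, r01]
        have w6 : T.tri (e 2) (e 1) (e 0) = 0 := by rw [T.symm13, r02]
        have w7 : T.tri (e 1) (e 2) (e 0) = 0 := by rw [T.symm13, T.symm23, r02]
        have w8 : T.tri (e 2) (e 2) (e 0) = 0 := by rw [T.symm13, r03]
        have w9 : T.tri (e 2) (e 1) (e 1) = 0 := by rw [T.symm13, e112]
        have w10 : T.tri (e 1) (e 2) (e 1) = 0 := by rw [T.symm23, e112]
        have w11 : T.tri (e 2) (e 1) (e 2) = T.tri (e 1) (e 2) (e 2) := T.symm12 _ _ _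
        have w12 : T.tri (e 2) (e 2) (e 1) = T.tri (e 1) (e 2) (e 2) := T.symm13 _ _ _
        have w13 : T.tri (e 0) (e 1) (e 0) = 0 := by rw [T.symm23]; exact haa _
        have w14 : T.tri (e 0) (e 2) (e 0) = 0 := by rw [T.symm23]; exact haa _
        have w15 : T.tri (e 0) (e 0) (e 1) = 0 := haa _
        have w16 : T.tri (e 0) (e 0) (e 2) = 0 := haa _
        have w17 : T.tri (e 0) (e 2) (e 1) = 0 := by rw [T.symm23, r02]
        simp only [hess, pt, Matrix.det_fin_three, Matrix.of_apply, map_add, map_smul, LinearMap.add_apply,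
          LinearMap.smul_apply, smul_eq_mul, s00, r01, r02, r03, w1, w2, w3, w4, w5, w6, w7, w8, w9, w10,
          w11, w12, w13, w14, w15, w16, w17, e111, e112]
        ring
      by_contra hne
      push Not at hne
      set γ := T.tri (e 1) (e 2) (e 2)
      set δ := T.tri (e 2) (e 2) (e 2)
      have hγ : γ = 0 := by
        have := hne ![1, 1, 0] ![2, 1, 0]
        rw [hh, hh, hcub, hcub] at this
        simp at this
        linear_combination this
      have hδ : δ = 0 := by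
        have := hne ![1, 1, 0] ![0, 1, 1]
        rw [hh, hh, hcub, hcub, hγ] at this
        simp at this
        exact this
      exact prod e hli 1 0 1 0 0 0 0 0 3 fun y => by rw [hcub, hγ, hδ]; ring
  · -- a node
    obtain ⟨u₁, u₂, hdet, q11, q12, q22⟩ : ∃ (u₁ u₂ : Fin 2 → K), u₁ 0 * u₂ 1 - u₁ 1 * u₂ 0 ≠ 0 ∧
        (p * u₁ 0 + q * u₁ 1) * (p' * u₁ 0 + q' * u₁ 1) = 0 ∧
        (p * u₁ 0 + q * u₁ 1) * (p' * u₂ 0 + q' * u₂ 1) + (p * u₂ 0 + q * u₂ 1) * (p' * u₁ 0 + q' * u₁ 1) = 2 ∧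
        (p * u₂ 0 + q * u₂ 1) * (p' * u₂ 0 + q' * u₂ 1) = 0 := by
      refine ⟨![q' / (p * q' - q * p'), -p' / (p * q' - q * p')],
        ![2 * -q / (p * q' - q * p'), 2 * p / (p * q' - q * p')], ?_, ?_, ?_, ?_⟩
      all_goals simp
      · intro h
        have h2 : (2 : K) / (p * q' - q * p') = 0 := by
          rw [← h]; field_simp
        simp [hd] at h2
      · right; field_simp; ring
      · field_simp; ring
      · left; field_simp; ring
    set v₁ := u₁ 0 • (b 0).1 + u₁ 1 • (b 1).1 with hv₁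
    set v₂ := u₂ 0 • (b 0).1 + u₂ 1 • (b 1).1 with hv₂
    have a11 : T.tri a v₁ v₁ = 0 := by rw [hv₁, hq, q11]
    have a22 : T.tri a v₂ v₂ = 0 := by rw [hv₂, hq, q22]
    have a12 : T.tri a v₁ v₂ = 1 := by
      have := hq' (u₁ 0) (u₁ 1) (u₂ 0) (u₂ 1)
      rw [q12, ← hv₁, ← hv₂] at this
      linear_combination (1 / 2 : K) * this
    have a21 : T.tri a v₂ v₁ = 1 := by rw [T.symm23, a12]
    set c₁ := -T.tri v₁ v₁ v₂ / 2
    set c₂ := -T.tri v₁ v₂ v₂ / 2
    have hli := mk _ _ _ _ hdet c₁ c₂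
    set e : Fin 3 → V := ![a, v₁ + c₁ • a, v₂ + c₂ • a] with he
    have e112 : T.tri (e 1) (e 1) (e 2) = 0 := by
      simp [e, map_add, map_smul, LinearMap.add_apply, LinearMap.smul_apply, T.symm12 v₁ a, T.symm13 v₁ v₁ a,
        T.symm23 v₁ v₂ a, a11, a12, a21, haa, haxa, c₁, c₂]
      ring
    have e122 : T.tri (e 1) (e 2) (e 2) = 0 := by
      simp [e, map_add, map_smul, LinearMap.add_apply, LinearMap.smul_apply, T.symm12 v₁ a, T.symm12 v₂ a,
        T.symm23 v₁ v₂ a, T.symm23 v₁ a v₂, a11, a12, a21, a22, haa, haxa, c₁, c₂]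
      ring
    have hcub : ∀ y : Fin 3 → K, T.tri (pt e y) (pt e y) (pt e y) =
        6 * y 0 * y 1 * y 2 + T.tri (e 1) (e 1) (e 1) * y 1 ^ 3 + T.tri (e 2) (e 2) (e 2) * y 2 ^ 3 := by
      intro y
      rw [pt, T.combine3', e112, e122]
      simp [e, haa, a11, a12, a21, a22, T.symm23 a _ a]
      ring
    refine ⟨e, hli, rfl, ?_⟩
    have hh : ∀ y : Fin 3 → K, T.hess e (pt e y) = 2 * y 0 * y 1 * y 2
        - T.tri (e 1) (e 1) (e 1) * y 1 ^ 3 - T.tri (e 2) (e 2) (e 2) * y 2 ^ 3 := by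
      intro y
      have s00 : ∀ i, T.tri (e i) (e 0) (e 0) = 0 := fun i => by rw [T.symm13]; exact haa _
      have r01 : T.tri (e 0) (e 1) (e 1) = 0 := by simp [e, a11, haa, T.symm23 a _ a]
      have r02 : T.tri (e 0) (e 1) (e 2) = 1 := by simp [e, a12, haa, T.symm23 a _ a]
      have r03 : T.tri (e 0) (e 2) (e 2) = 0 := by simp [e, a22, haa, T.symm23 a _ a]
      have w1 : T.tri (e 1) (e 0) (e 1) = 0 := by rw [T.symm12, r01]
      have w2 : T.tri (e 1) (e 0) (e 2) = 1 := by rw [T.symm12, r02]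
      have w3 : T.tri (e 2) (e 0) (e 1) = 1 := by rw [T.rot, r02]
      have w4 : T.tri (e 2) (e 0) (e 2) = 0 := by rw [T.symm12, r03]
      have w5 : T.tri (e 1) (e 1) (e 0) = 0 := by rw [T.symm13, r01]
      have w6 : T.tri (e 2) (e 1) (e 0) = 1 := by rw [T.symm13, r02]
      have w7 : T.tri (e 1) (e 2) (e 0) = 1 := by rw [T.symm13, T.symm23, r02]
      have w8 : T.tri (e 2) (e 2) (e 0) = 0 := by rw [T.symm13, r03]
      have w9 : T.tri (e 2) (e 1) (e 1) = 0 := by rw [T.symm13, e112]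
      have w10 : T.tri (e 1) (e 2) (e 1) = 0 := by rw [T.symm23, e112]
      have w11 : T.tri (e 2) (e 1) (e 2) = 0 := by rw [T.symm12, e122]
      have w12 : T.tri (e 2) (e 2) (e 1) = 0 := by rw [T.symm13, e122]
      have w13 : T.tri (e 0) (e 1) (e 0) = 0 := by rw [T.symm23]; exact haa _
      have w14 : T.tri (e 0) (e 2) (e 0) = 0 := by rw [T.symm23]; exact haa _
      have w15 : T.tri (e 0) (e 0) (e 1) = 0 := haa _
      have w16 : T.tri (e 0) (e 0) (e 2) = 0 := haa _
      have w17 : T.tri (e 0) (e 2) (e 1) = 1 := by rw [T.symm23, r02]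
      simp only [hess, pt, Matrix.det_fin_three, Matrix.of_apply, map_add, map_smul, LinearMap.add_apply,
        LinearMap.smul_apply, smul_eq_mul, s00, r01, r02, r03, w1, w2, w3, w4, w5, w6, w7, w8, w9, w10,
        w11, w12, w13, w14, w15, w16, w17, e122, e112]
      ring
    by_contra hne
    push Not at hne
    set α := T.tri (e 1) (e 1) (e 1)
    set ε := T.tri (e 2) (e 2) (e 2)
    have hα : α = 0 := by
      have := hne ![0, 1, 0] ![1, 1, 1]
      rw [hh, hh, hcub, hcub] at this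
      simp at this
      linear_combination (-1 / 8 : K) * this
    have hε : ε = 0 := by
      have := hne ![0, 0, 1] ![1, 1, 1]
      rw [hh, hh, hcub, hcub] at this
      simp at this
      linear_combination (-1 / 8 : K) * this
    exact prod e hli 1 0 0 1 0 0 0 0 6 fun y => by rw [hcub, hα, hε]; ring

end Groth.CubicGeom.Form
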